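import Cfsg.Agent.Lib.FischerLarge58.Data

/-!
# Checks: the hermitian space and the stabiliser of the four-group

Owner: helper58.
-/

set_option autoImplicit false
set_option maxRecDepth 100000

namespace Cfsg.Agent.Lib.FischerLarge58

open Cfsg.Agent.Lib.FischerLarge43 Cfsg.Agent.Lib.FischerLarge45.Model
open Cfsg.Agent.Lib.FischerLarge45.Lifts (wf)
open Cfsg.Agent.Lib.G24 (K4)
open Cfsg.Agent.Lib.U62Recog47 (V4 h4)

/-- equality of four coordinates -/
def eqV (a b : V4) : Bool := (List.finRange 4).all fun i => decide (a i = b i)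

theorem eqV_iff {a b : V4} : eqV a b = true ↔ a = b := by
  simp only [eqV, List.all_eq_true, List.mem_finRange, decide_eq_true_eq, forall_const]
  exact ⟨funext, fun h i => h ▸ rfl⟩

/-- the vector of an index below 256 -/
def p256 (k : Nat) : V4 := ![dK (k &&& 3), dK ((k >>> 2) &&& 3), dK ((k >>> 4) &&& 3), dK ((k >>> 6) &&& 3)]

theorem p256_surj (p : V4) : ∃ k < 256, p256 k = p := by
  refine ⟨nK (p 0) + 4 * nK (p 1) + 16 * nK (p 2) + 64 * nK (p 3), ?_, ?_⟩
  · cases p 0 <;> cases p 1 <;> cases p 2 <;> cases p 3 <;> decide
  · have h : ∀ a b c d : K4, p256 (nK a + 4 * nK b + 16 * nK c + 64 * nK d) = ![a, b, c, d] := by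
      intro a b c d
      cases a <;> cases b <;> cases c <;> cases d <;> rfl
    rw [h]
    funext i
    fin_cases i <;> rfl

theorem dK_xor : ∀ a < 4, ∀ b < 4, dK (a ^^^ b) = dK a + dK b := by decide

theorem perp_iff_ok : (List.range 4096).all (fun v =>
    (bb v 80 == 0 && bb v 160 == 0) == onPerp v) = true := by decide +kernel

theorem io_omega_ok : (List.range 4096).all (fun v => eqV (io (omega v)) (K4.w • io v)) = true := by
  decide +kernel

theorem io_line_ok : (List.range 4096).all (fun v =>
    !(onPerp v && eqV (io v) 0) || decide (v ∈ lineL)) = true := by decide +kernel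

theorem io_qq_ok : (List.range 4096).all (fun v =>
    !onPerp v || decide (h4 (io v) (io v) = if qq v = 1 then 1 else 0)) = true := by decide +kernel

theorem sec_ok : (List.range 256).all (fun k => eqV (io (sec (p256 k))) (p256 k) &&
    onPerp (sec (p256 k)) && decide (sec (p256 k) < 4096)) = true := by decide +kernel

/-- fixing both codes -/
def fixE (a : Nat) : Bool := ap (key a) 80 == 80 && ap (key a) 160 == 160

theorem sylow_count : ((List.range 256).filter fixE).length = 64 := by decide +kernel

theorem sylow_faithful : (List.range 256).all (fun a =>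
    !(fixE a && [1, 2, 4, 8, 80, 160, 256, 512, 1024, 2048].all fun v => eqV (io (ap (key a) v)) (io v)) ||
      (List.range 12).all fun j => ap (key a) (2 ^ j) == 2 ^ j) = true := by decide +kernel

theorem sylow_invol : (List.range 256).all (fun a =>
    !(fixE a && (List.range 12).all fun j => ap (key a) (ap (key a) (2 ^ j)) == 2 ^ j) ||
      conjW.any fun w => (span b0L).any fun b => (List.range 12).all fun j =>
        ap (key b) (wf w (2 ^ j)) == wf w (ap (key a) (2 ^ j))) = true := by decide +kernel

theorem conjW_ok : conjW.all (fun w => w.all (fun t => decide (t < 6)) && wf w 80 == 80 && wf w 160 == 160) = true := by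
  decide +kernel

theorem key_move : (List.range 256).any (fun a => ap (key a) 80 == 80 && ap (key a) 160 == 240) = true := by
  decide +kernel

theorem e_codes : uvec 4 = 80 ∧ uvec 8 = 160 ∧ uvec 12 = 240 ∧ isU 80 = true ∧ omega 80 = 160 ∧
    omega 160 = 240 := by decide +kernel

theorem bb_witness : onPerp 1 = true ∧ onPerp 2 = true ∧ bb 1 2 = 1 := by decide +kernel

end Cfsg.Agent.Lib.FischerLarge58
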