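import Cfsg.Agent.Lib.FischerLarge43.Classes
import Cfsg.Agent.Lib.FischerLarge58.ChecksA

/-!
# The stabiliser of the two codes in `C(z)/Q`: order 25920, Sylow subgroup from the table

Owner: helper58.
-/

set_option autoImplicit false
set_option linter.style.haveILetI false
set_option linter.unusedSectionVars false
set_option maxRecDepth 100000
set_option maxHeartbeats 1000000
set_option linter.constructorNameAsVariable false

namespace Cfsg.Agent.Lib.FischerLarge58

open Cfsg.Agent.Lib.LargeFischer13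
open Cfsg.Agent.Lib.LargeFischer13.Model (IsR IsU)
open Cfsg.Agent.Lib.FischerLarge43
open Cfsg.Agent.Lib.FischerLarge45 (Local zc)
open Cfsg.Agent.Lib.FischerLarge45.Model (omega ap key eq_of_basis ap_xor)
open Cfsg.Agent.Lib.FischerLarge45.Codes (qn inU omega_lt)
open Cfsg.Agent.Lib.FischerLarge45.Lifts (T256 key_img)

attribute [local instance] Bridge.acg Bridge.fin Bridge.act

theorem inU_facts : (List.range 4096).all (fun k => !inU k ||
    (!qn k && !isR k && decide (k ≠ 0) && decide (omega k ≠ omega (omega k)))) = true ∧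
    ((List.range 4096).filter inU).length = 378 ∧ inU 80 = true := by decide +kernel

universe u

variable {G : Type u} [Group G] [Finite G] {z : G} {Q : Subgroup (Cz z)} [Q.Normal]
variable (L : Local z Q)

/-- an element permutes the multiples by `ω` of a code or exchanges them -/
theorem ac_omega_or (w : (Cz z) ⧸ Q) :
    (∀ k < 4096, L.S.ac w (omega k) = omega (L.S.ac w k)) ∨
      (∀ k < 4096, L.S.ac w (omega k) = omega (omega (L.S.ac w k))) := by
  have hE : ∀ k < 4096, L.S.E (omega k) = L.br.D.h • L.S.E k := fun k hk => (L.S.h_E hk).symm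
  rcases L.br.D.h_conj w with h | h
  · refine Or.inl fun k hk => L.S.E_inj (L.S.ac_lt _ _) (omega_lt (L.S.ac_lt _ _)) ?_
    rw [L.S.E_ac, hE k hk, hE _ (L.S.ac_lt _ _), L.S.E_ac, ← mul_smul, ← mul_smul]
    congr 1
    exact mul_inv_eq_iff_eq_mul.1 h
  · refine Or.inr fun k hk => L.S.E_inj (L.S.ac_lt _ _) (omega_lt (omega_lt (L.S.ac_lt _ _))) ?_
    rw [L.S.E_ac, hE k hk, hE _ (omega_lt (L.S.ac_lt _ _)), hE _ (L.S.ac_lt _ _), L.S.E_ac, ← mul_smul,
      ← mul_smul, ← mul_smul]
    congr 1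
    rw [mul_inv_eq_iff_eq_mul.1 h]
    have h3 := L.br.D.h_cube
    congr 1
    exact inv_eq_of_mul_eq_one_right (by rw [← mul_assoc]; exact h3)

/-- the group is transitive on the class of 378 -/
theorem trans_inU (hF : Cfsg.IsOfLargeFischerTypeAt z Q) {a b : Nat} (ha : a < 4096) (hb : b < 4096)
    (hau : inU a = true) (hbu : inU b = true) : ∃ w : (Cz z) ⧸ Q, L.S.ac w a = b := by
  classical
  obtain ⟨F⟩ := L.br.D.exists_nframe
  have hz2 : orderOf z = 2 := hF.1.1
  have hzQ : z ∈ Q.map (Cz z).subtype := ⟨zc z, L.data.es.mem, rfl⟩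
  obtain ⟨g, ⟨hgC, hgQ⟩, hgne⟩ := hF.1.2.2.2.2
  obtain ⟨c0, hc0, hR0, -⟩ :=
    FischerLarge99.conj_isR L.br hz2 hzQ L.data.cardQ F ⟨⟨_, hgC⟩, hgQ⟩ g rfl hgne
  have key : ∀ k < 4096, inU k = true → ∃ c, F.vec c = L.S.E k ∧ IsU c := by
    intro k hk hin
    have h := List.all_eq_true.1 inU_facts.1 k (List.mem_range.2 hk)
    simp only [hin, Bool.not_true, Bool.false_or, Bool.and_eq_true, Bool.not_eq_true',
      decide_eq_true_eq] at h
    obtain ⟨⟨⟨hqn, hnR⟩, hk0⟩, -⟩ := h
    have hx : L.S.E k ≠ 0 := fun e => hk0 (L.S.E_inj hk (by norm_num) (e.trans (E_zero L).symm))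
    have hq0 : L.br.D.q (L.S.E k) = 0 := by
      rw [L.S.q_E hk, ZMod.natCast_eq_zero_iff_even, Nat.even_iff]
      simpa [qn] using hqn
    obtain ⟨c, hc, hU | hR⟩ := F.exists_class hx hq0
    · exact ⟨c, hc, hU⟩
    exfalso
    obtain ⟨q, hq⟩ := L.br.π_surj (L.S.E k)
    have hq2 : q * q = 1 := (L.br.π_q q).1 (by rw [hq]; exact hq0)
    obtain ⟨w, hw⟩ := F.transR c0 c hR0 hR
    have hcq : F.vec c = L.br.π q := hc.trans hq.symm
    obtain ⟨h, hh⟩ := L.br.conj_of_smul (s := ⟨⟨_, hgC⟩, hgQ⟩) hq2 (fun e => hx (hq.symm.trans e)) (w := w)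
      (by rw [← hcq, ← hc0]; exact hw)
    have hZ : Zc z (q : Cz z) := isConj_iff.2 ⟨(h : G) * g, by
      rw [← congrArg Subtype.val hh]
      simp [mul_assoc]⟩
    rw [((class_iff L hF q hk hk0 hq).1 hZ).1] at hnR
    exact Bool.noConfusion hnR
  obtain ⟨ca, hca, hUa⟩ := key a ha hau
  obtain ⟨cb, hcb, hUb⟩ := key b hb hbu
  obtain ⟨w, hw⟩ := F.transU ca cb hUa hUb
  exact ⟨w, L.S.E_inj (L.S.ac_lt _ _) hb (by rw [L.S.E_ac, ← hca, ← hcb]; exact hw)⟩

/-- the stabiliser of the two codes -/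
noncomputable def S2 : Subgroup ((Cz z) ⧸ Q) :=
  MulAction.stabilizer _ ((L.S.E 80, L.S.E 160) : L.br.V × L.br.V)

theorem mem_S2 {w : (Cz z) ⧸ Q} : w ∈ S2 L ↔ L.S.ac w 80 = 80 ∧ L.S.ac w 160 = 160 := by
  rw [S2, MulAction.mem_stabilizer_iff, Prod.smul_mk, Prod.mk.injEq]
  constructor
  · rintro ⟨h1, h2⟩
    exact ⟨L.S.E_inj (L.S.ac_lt _ _) (by norm_num) (by rw [L.S.E_ac, h1]),
      L.S.E_inj (L.S.ac_lt _ _) (by norm_num) (by rw [L.S.E_ac, h2])⟩
  · rintro ⟨h1, h2⟩
    exact ⟨by rw [← L.S.E_ac, h1], by rw [← L.S.E_ac, h2]⟩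

theorem S2_omega {w : (Cz z) ⧸ Q} (hw : w ∈ S2 L) {k : Nat} (hk : k < 4096) :
    L.S.ac w (omega k) = omega (L.S.ac w k) := by
  rcases ac_omega_or L w with h | h
  · exact h k hk
  · exfalso
    obtain ⟨h1, h2⟩ := (mem_S2 L).1 hw
    have := h 80 (by norm_num)
    obtain ⟨-, -, -, -, e1, e2⟩ := e_codes
    rw [h1, e1, h2, e2] at this
    exact absurd this (by norm_num)

theorem card_S2 (hF : Cfsg.IsOfLargeFischerTypeAt z Q) : Nat.card (S2 L) = 25920 := by
  classical
  let U378 := ((List.range 4096).filter inU).toFinset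
  have hU : ∀ a, a ∈ U378 ↔ a < 4096 ∧ inU a = true := fun a => by simp [U378]
  have hc : U378.card = 378 := by
    rw [List.toFinset_card_of_nodup (List.nodup_range.filter _), inU_facts.2.1]
  let f : Nat × Bool → L.br.V × L.br.V := fun p =>
    (L.S.E p.1, L.S.E (if p.2 then omega (omega p.1) else omega p.1))
  obtain ⟨-, -, -, -, e1, e2⟩ := e_codes
  have horb : MulAction.orbit ((Cz z) ⧸ Q) ((L.S.E 80, L.S.E 160) : L.br.V × L.br.V) =
      ↑((U378 ×ˢ (Finset.univ : Finset Bool)).image f) := by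
    ext v
    simp only [Finset.coe_image, Set.mem_image, Finset.mem_coe, Finset.mem_product, Finset.mem_univ, and_true, hU]
    constructor
    · rintro ⟨w, rfl⟩
      rcases ac_omega_or L w with h | h
      · refine ⟨(L.S.ac w 80, false), ⟨L.S.ac_lt _ _, L.S.ac_inU w (by norm_num) inU_facts.2.2⟩, ?_⟩
        show (_, _) = w • (_, _)
        rw [Prod.smul_mk, ← L.S.E_ac, ← L.S.E_ac, ← e1, h 80 (by norm_num)]
        simp
      · refine ⟨(L.S.ac w 80, true), ⟨L.S.ac_lt _ _, L.S.ac_inU w (by norm_num) inU_facts.2.2⟩, ?_⟩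
        show (_, _) = w • (_, _)
        rw [Prod.smul_mk, ← L.S.E_ac, ← L.S.E_ac, ← e1, h 80 (by norm_num)]
        simp
    · rintro ⟨⟨a, b⟩, ⟨ha, hau⟩, rfl⟩
      obtain ⟨w, hw⟩ := trans_inU L hF (by norm_num) ha inU_facts.2.2 hau
      obtain ⟨t, ht, ht'⟩ := List.any_eq_true.1 key_move
      simp only [Bool.and_eq_true, beq_iff_eq] at ht'
      obtain ⟨v, hv⟩ := key_img L.S t (List.mem_range.1 ht)
      have hv1 : L.S.ac v 80 = 80 := (hv 80 (by norm_num)).trans ht'.1
      have hv2 : L.S.ac v 160 = 240 := (hv 160 (by norm_num)).trans ht'.2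
      have h240 : L.S.ac w 240 = L.S.ac w 80 ^^^ L.S.ac w 160 := by
        rw [show (240 : Nat) = 80 ^^^ 160 by decide, L.S.ac_xor]
      have hx : ∀ a < 4096, omega a = a ^^^ omega (omega a) := fun a ha => by
        have h := List.all_eq_true.1 forms_ok a (List.mem_range.2 ha)
        simp only [Bool.and_eq_true, beq_iff_eq] at h
        have h3 := h.2
        calc omega a = omega a ^^^ (a ^^^ omega a ^^^ omega (omega a)) := by rw [h3, Nat.xor_zero]
          _ = _ := by
            apply Nat.eq_of_testBit_eq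
            intro i
            simp only [Nat.testBit_xor]
            cases (omega a).testBit i <;> cases a.testBit i <;> cases (omega (omega a)).testBit i <;> rfl
      have h160 : L.S.ac w 160 = omega a ∨ L.S.ac w 160 = omega (omega a) := by
        rcases ac_omega_or L w with h | h
        · exact Or.inl (by rw [← e1, h 80 (by norm_num), hw])
        · exact Or.inr (by rw [← e1, h 80 (by norm_num), hw])
      have hgoal : ∀ u : (Cz z) ⧸ Q, L.S.ac u 80 = a →
          L.S.ac u 160 = (if b then omega (omega a) else omega a) →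
          f (a, b) ∈ MulAction.orbit ((Cz z) ⧸ Q) ((L.S.E 80, L.S.E 160) : L.br.V × L.br.V) :=
        fun u h1 h2 => ⟨u, by
          show u • (_, _) = (_, _)
          rw [Prod.smul_mk, ← L.S.E_ac, ← L.S.E_ac, h1, h2]⟩
      have hwv : L.S.ac (w * v) 80 = a ∧ L.S.ac (w * v) 160 = L.S.ac w 80 ^^^ L.S.ac w 160 := by
        rw [L.S.ac_mul, L.S.ac_mul, hv1, hv2, h240, hw]
        exact ⟨rfl, rfl⟩
      have hx2 : a ^^^ omega a = omega (omega a) := by
        have h := hx a ha
        calc a ^^^ omega a = a ^^^ (a ^^^ omega (omega a)) := by rw [← h]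
          _ = _ := by rw [← Nat.xor_assoc, Nat.xor_self, Nat.zero_xor]
      cases b
      · rcases h160 with h | h
        · exact hgoal w hw h
        · exact hgoal (w * v) hwv.1 (by rw [hwv.2, hw, h]; exact (hx a ha).symm)
      · rcases h160 with h | h
        · exact hgoal (w * v) hwv.1 (by rw [hwv.2, hw, h]; exact hx2)
        · exact hgoal w hw h
  have hcard : (MulAction.orbit ((Cz z) ⧸ Q) ((L.S.E 80, L.S.E 160) : L.br.V × L.br.V)).ncard = 756 := by
    rw [horb, Set.ncard_coe_finset, Finset.card_image_of_injOn, Finset.card_product, hc]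
    · simp
    · rintro ⟨a, b⟩ ha ⟨a', b'⟩ ha' e
      simp only [Finset.coe_product, Set.mem_prod, Finset.mem_coe, hU, Finset.mem_univ, and_true] at ha ha'
      simp only [f, Prod.mk.injEq] at e
      have h1 := L.S.E_inj ha.1 ha'.1 e.1
      subst h1
      have hne := List.all_eq_true.1 inU_facts.1 a (List.mem_range.2 ha.1)
      simp only [ha.2, Bool.not_true, Bool.false_or, Bool.and_eq_true, decide_eq_true_eq] at hne
      have hl : ∀ c : Bool, (if c then omega (omega a) else omega a) < 4096 := fun c => by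
        cases c
        · exact omega_lt ha.1
        · exact omega_lt (omega_lt ha.1)
      have h2 := L.S.E_inj (hl b) (hl b') e.2
      cases b <;> cases b'
      · rfl
      · exact absurd h2 hne.2
      · exact absurd h2.symm hne.2
      · rfl
  have h := (S2 L).card_mul_index
  rw [S2, MulAction.index_stabilizer, hcard] at h
  rw [L.br.D.cardW] at h
  rw [S2]
  omega

/-- the part of the table fixing both codes -/
noncomputable def T64 : Subgroup ((Cz z) ⧸ Q) := T256 L.S ⊓ S2 L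

theorem card_T64 : Nat.card (T64 L) = 64 := by
  classical
  choose g hg using fun a : ((List.range 256).filter fixE).toFinset =>
    key_img L.S a.1 (by
      have h := (List.mem_toFinset.1 a.2)
      exact List.mem_range.1 (List.mem_filter.1 h).1)
  have hfix : ∀ a : ((List.range 256).filter fixE).toFinset, g a ∈ T64 L := fun a => by
    obtain ⟨h1, h2⟩ := List.mem_filter.1 (List.mem_toFinset.1 a.2)
    simp only [fixE, Bool.and_eq_true, beq_iff_eq] at h2
    exact ⟨⟨a.1, List.mem_range.1 h1, hg a⟩, (mem_S2 L).2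
      ⟨(hg a 80 (by norm_num)).trans h2.1, (hg a 160 (by norm_num)).trans h2.2⟩⟩
  refine ((Nat.card_congr (Equiv.ofBijective (fun a => (⟨g a, hfix a⟩ : T64 L)) ⟨?_, ?_⟩)).symm).trans ?_
  · intro a b e
    have e' : g a = g b := congrArg Subtype.val e
    refine Subtype.ext (FischerLarge45.Model.key_inj (List.mem_range.1 (List.mem_filter.1 (List.mem_toFinset.1 a.2)).1)
      (List.mem_range.1 (List.mem_filter.1 (List.mem_toFinset.1 b.2)).1) fun k hk => ?_)
    rw [← hg a k hk, e', hg b k hk]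
  · rintro ⟨x, ⟨a, ha, e⟩, hx⟩
    obtain ⟨h1, h2⟩ := (mem_S2 L).1 hx
    rw [e 80 (by norm_num)] at h1
    rw [e 160 (by norm_num)] at h2
    refine ⟨⟨a, List.mem_toFinset.2 (List.mem_filter.2 ⟨List.mem_range.2 ha, by simp [fixE, h1, h2]⟩)⟩,
      Subtype.ext (L.S.eq_of_ac fun k hk => ?_)⟩
    rw [hg _ k hk, e k hk]
  · rw [Nat.card_eq_finsetCard, List.toFinset_card_of_nodup (List.nodup_range.filter _), sylow_count]

/-- every 2-subgroup of the stabiliser is conjugate into the table part -/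
theorem conj_T64 (hF : Cfsg.IsOfLargeFischerTypeAt z Q) {w : (Cz z) ⧸ Q} (hw : w ∈ S2 L) {n : ℕ}
    (hn : w ^ 2 ^ n = 1) : ∃ c ∈ S2 L, c * w * c⁻¹ ∈ T64 L := by
  haveI : Fact (Nat.Prime 2) := ⟨Nat.prime_two⟩
  have hcard : Nat.card ((T64 L).subgroupOf (S2 L)) = 2 ^ (Nat.card (S2 L)).factorization 2 := by
    rw [Nat.card_congr (Subgroup.subgroupOfEquivOfLe (show T64 L ≤ S2 L from inf_le_right)).toEquiv,
      card_T64, card_S2 L hF, show (25920 : ℕ) = 2 ^ 6 * 405 by norm_num,
      Nat.factorization_mul (by norm_num) (by norm_num), Finsupp.add_apply,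
      Nat.Prime.factorization_pow (by norm_num),
      Nat.factorization_eq_zero_of_not_dvd (by norm_num : ¬ (2 ∣ 405))]
    norm_num
  let T : Sylow 2 (S2 L) := Sylow.ofCard _ hcard
  set x : S2 L := ⟨w, hw⟩
  have hp : IsPGroup 2 (Subgroup.zpowers x) := by
    obtain ⟨k, -, hk⟩ := (Nat.dvd_prime_pow Nat.prime_two).1
      (orderOf_dvd_of_pow_eq_one (show x ^ 2 ^ n = 1 from Subtype.ext hn))
    exact IsPGroup.of_card (n := k) (by rw [Nat.card_zpowers, hk])
  obtain ⟨P, hP⟩ := hp.exists_le_sylow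
  obtain ⟨c, hc⟩ := MulAction.exists_smul_eq (S2 L) P T
  refine ⟨c.1, c.2, ?_⟩
  have : c * x * c⁻¹ ∈ (T : Subgroup (S2 L)) := by
    rw [← hc]
    exact ⟨x, hP (Subgroup.mem_zpowers x), rfl⟩
  exact this

end Cfsg.Agent.Lib.FischerLarge58
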