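import Cfsg.Agent.Lib.FischerLarge58.ChecksA

/-!
# Checks: the states

Owner: helper58.
-/

set_option autoImplicit false
set_option maxRecDepth 100000

namespace Cfsg.Agent.Lib.FischerLarge58

open Cfsg.Agent.Lib.FischerLarge43 Cfsg.Agent.Lib.FischerLarge45.Model
open Cfsg.Agent.Lib.G24 (K4)
open Cfsg.Agent.Lib.U62Recog47 (V4 h4)

theorem ttM_ok : maskOf (ttList cb0) = ttM := by decide +kernel

theorem ptsM_ok : maskOf ptsL = ptsM := by decide +kernel

theorem ptsL_filter : (List.range 2048).all (fun m => ptsM.testBit m ==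
    (m != 0 && !ttM.testBit m && ttM.testBit (m ^^^ 4) && ttM.testBit (m ^^^ 8) && ttM.testBit (m ^^^ 12))) = true := by
  decide +kernel

theorem ptsL_ok : ptsL.all (fun m => decide (m < 2048) && decide (m ≠ 0) &&
    eL.all (fun e => (e == 0 || !ptsM.testBit (m ^^^ e)) && !ptsM.testBit (m ^^^ 1024 ^^^ e)) &&
    (m == 1024 || (decide (((m >>> 6) &&& 15) ∈ yL) &&
      ((m &&& 63) + 64 * ((m >>> 6) &&& 15) + 1024 * (m >>> 10) == m)))) = true := by decide +kernel

/-- the local part of a state -/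
def lc (m : Nat) : Nat := (m &&& 63) + 64 * (m >>> 10)

/-- conjugation of a state by a vector -/
def cj (y v s : Nat) : Nat :=
  ((s &&& 63) ^^^ dd y v) + 64 * (((s >>> 6) + kap y (dd y v) + bb v (uvec (s &&& 63))) % 2)

theorem fibre_ok : ptsL.all (fun a => ptsL.all fun b => let y := (a >>> 6) &&& 15
    a == 1024 || b == 1024 || !(y == ((b >>> 6) &&& 15)) ||
      (decide (lc a < 128) && decide (lc b < 128) &&
        trV.any fun v => onPerp v && decide (v < 4096) && cj y v (lc a) == lc b)) = true := by decide +kernel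

/-- the witness for a pair -/
def pairW (m : Nat) : Bool :=
  ptsL.any fun a => eL.any fun e1 => eL.any fun p1 => eL.any fun e3 =>
    let z1 := m ^^^ e1
    let p2 := a ^^^ e3
    !ttM.testBit z1 && ttM.testBit p1 && ttM.testBit p2 && ttM.testBit (p1 ^^^ p2) &&
      ttM.testBit (z1 ^^^ p1) && ttM.testBit (z1 ^^^ p2) && ttM.testBit (z1 ^^^ p1 ^^^ p2)

theorem states_class : (List.range 2048).all (fun m => eL.contains m ||
    eL.any (fun e => ptsM.testBit (m ^^^ e)) || eL.all (fun e => !ttM.testBit (m ^^^ e)) || pairW m) = true := by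
  decide +kernel

theorem tt_sym : (List.range 2048).all (fun m => !(ttM.testBit m && ttM.testBit (m ^^^ 1024)) ||
    uList.contains m) = true ∧
    uList.all (fun m => ttM.testBit (m ^^^ 1024) && decide (((m >>> 6) &&& 15) = 0)) = true := by decide +kernel

theorem tt_line : uList.all (fun a => uList.all fun b => !(uList.contains (a ^^^ b)) ||
    (uvec (b &&& 63) == omega (uvec (a &&& 63)) || uvec (b &&& 63) == omega (omega (uvec (a &&& 63))))) = true := by
  decide +kernel

theorem e_states : ttM.testBit 4 = true ∧ ttM.testBit 8 = true ∧ ttM.testBit 12 = true ∧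
    ttM.testBit 1028 = true ∧ (4 ^^^ 8 = 12) ∧ (80 ^^^ 96 ^^^ 193 ^^^ 195 ^^^ 1947 ^^^ 1965 = 4) ∧
    (80 ^^^ 96 ^^^ 193 ^^^ 505 ^^^ 1216 ^^^ 1472 = 8) := by decide +kernel

theorem q_class : (List.range 4096).all (fun v =>
    !(onPerp v && qq v == 0 && isR v && !eqV (io v) 0) ||
      [80, 160, 240].any fun e => isR (v ^^^ e)) = true := by decide +kernel

theorem pairs_pts : (List.range 21).all (fun i => let x := ptsX.getD i 0
    decide (x < 24) && x != 3 && x != 4 && x != 10 &&
      (vg.getD 10 0 ^^^ vg.getD x 0) == (ptsL.getD i 0 ^^^ 4)) = true ∧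
    vg.getD 3 0 ^^^ vg.getD 4 0 = 4 ∧ vg.getD 3 0 ^^^ vg.getD 10 0 = 8 ∧
    vg.getD 10 0 ^^^ vg.getD 7 0 = 1028 := by decide +kernel

end Cfsg.Agent.Lib.FischerLarge58
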