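import Cfsg.Agent.Lib.FischerLarge43.Main
import Cfsg.Agent.Lib.FischerLarge58.ChecksC

/-!
# The four-group, its centraliser, and the class of `z` in it

`EG` is the four-group of the states `0, 4, 8, 12` inside the plane; `InD a` says that `a` is a
conjugate of `z` under its centraliser `CE`.  Such an element is determined by its coset of `EG`,
and those inside `A` are the 21 states of `ptsL`.

Owner: helper58.
-/

set_option autoImplicit false
set_option linter.style.haveILetI false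
set_option linter.unusedSectionVars false
set_option maxRecDepth 100000

namespace Cfsg.Agent.Lib.FischerLarge58

open Cfsg.Agent.Lib.LargeFischer13
open Cfsg.Agent.Lib.FischerLarge43
open Cfsg.Agent.Lib.FischerLarge45 (Local Wof zc zc_comm)
open Cfsg.Agent.Lib.Golay (ptEquiv)

attribute [local instance] Bridge.acg Bridge.fin Bridge.act

universe u

variable {G : Type u} [Group G] [Finite G] {z : G} {Q : Subgroup (Cz z)} [Q.Normal]

/-- a normal base with the numbering of the 24 points -/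
structure Ctx (L : Local z Q) where
  P : Base L
  Pt : Pts z (AG L)
  hP : ∀ m < 2048, (m ≠ 0 ∧ ¬ Zc z (P.el m)) ↔ m ∈ ttList cb0
  htt : ∀ p q, Pt.tt p q = (P.el (pvF (ptEquiv.symm p) (ptEquiv.symm q)) : G)
  hF : Cfsg.IsOfLargeFischerTypeAt z Q

theorem exists_ctx (L : Local z Q) (hF : Cfsg.IsOfLargeFischerTypeAt z Q) : Nonempty (Ctx L) := by
  obtain ⟨P, Pt, h1, h2⟩ := exists_pts_el L hF
  exact ⟨⟨P, Pt, h1, h2, hF⟩⟩

theorem eL_facts : ∀ e ∈ eL, e < 2048 ∧ (∀ f ∈ eL, e ^^^ f ∈ eL) ∧ 1024 ^^^ e < 2048 ∧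
    (e ≠ 0 → ttM.testBit (1024 ^^^ e) = true) := by decide +kernel

variable {L : Local z Q} (K : Ctx L)

/-- the element of a state in the ambient group -/
noncomputable abbrev Ctx.g (m : Nat) : G := ((K.P.el m : Cz z) : G)

theorem Ctx.g_xor {a b : Nat} (ha : a < 2048) (hb : b < 2048) : K.g (a ^^^ b) = K.g a * K.g b := by
  show ((K.P.el (a ^^^ b) : Cz z) : G) = _
  rw [K.P.el_xor ha hb]
  rfl

theorem Ctx.g_zero : K.g 0 = 1 := by
  show ((K.P.el 0 : Cz z) : G) = 1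
  rw [K.P.el_zero]
  rfl

theorem Ctx.g_z : K.g 1024 = z := by
  show ((K.P.el 1024 : Cz z) : G) = z
  rw [K.P.el_z]

theorem Ctx.g_sq {a : Nat} (ha : a < 2048) : K.g a * K.g a = 1 := by
  rw [← K.g_xor ha ha, Nat.xor_self, K.g_zero]

theorem Ctx.g_inv {a : Nat} (ha : a < 2048) : (K.g a)⁻¹ = K.g a :=
  inv_eq_of_mul_eq_one_right (K.g_sq ha)

theorem Ctx.g_inj {a b : Nat} (ha : a < 2048) (hb : b < 2048) (h : K.g a = K.g b) : a = b :=
  K.P.el_inj ha hb (Subtype.ext h)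

theorem Ctx.g_comm {a b : Nat} (ha : a < 2048) (hb : b < 2048) : Commute (K.g a) (K.g b) := by
  show K.g a * K.g b = K.g b * K.g a
  rw [← K.g_xor ha hb, ← K.g_xor hb ha, Nat.xor_comm]

theorem Ctx.g_mem {m : Nat} : K.g m ∈ AG L := ⟨_, K.P.el_mem, rfl⟩

theorem Ctx.mem_tt {m : Nat} (hm : m < 2048) :
    ttM.testBit m = true ↔ (m ≠ 0 ∧ ¬ IsConj z (K.g m)) := by
  rw [← ttM_ok, mask_iff]
  exact (K.hP m hm).symm

theorem Ctx.conj_iff {m : Nat} (hm : m < 2048) :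
    IsConj z (K.g m) ↔ (m ≠ 0 ∧ ttM.testBit m = false) := by
  rw [← Bool.not_eq_true, K.mem_tt hm]
  constructor
  · intro h
    refine ⟨?_, fun h' => h'.2 h⟩
    rintro rfl
    rw [K.g_zero, isConj_one_left] at h
    exact L.data.es.ne (Subtype.ext h)
  · rintro ⟨h0, h1⟩
    by_contra h
    exact h1 ⟨h0, h⟩

/-- the four-group -/
noncomputable def Ctx.EG : Subgroup G where
  carrier := {a | ∃ e ∈ eL, K.g e = a}
  one_mem' := ⟨0, by simp [eL], K.g_zero⟩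
  mul_mem' := by
    rintro _ _ ⟨e, he, rfl⟩ ⟨f, hf, rfl⟩
    exact ⟨e ^^^ f, (eL_facts e he).2.1 f hf, K.g_xor (eL_facts e he).1 (eL_facts f hf).1⟩
  inv_mem' := by
    rintro _ ⟨e, he, rfl⟩
    exact ⟨e, he, (K.g_inv (eL_facts e he).1).symm⟩

theorem Ctx.mem_EG {a : G} : a ∈ K.EG ↔ ∃ e ∈ eL, K.g e = a := Iff.rfl

/-- the centraliser of the four-group -/
noncomputable def Ctx.CE : Subgroup G := Subgroup.centralizer (K.EG : Set G)

theorem Ctx.mem_CE {a : G} : a ∈ K.CE ↔ Commute (K.g 4) a ∧ Commute (K.g 8) a := by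
  constructor
  · intro h
    exact ⟨h _ ⟨4, by simp [eL], rfl⟩, h _ ⟨8, by simp [eL], rfl⟩⟩
  · rintro ⟨h4, h8⟩ _ ⟨e, he, rfl⟩
    simp only [eL, List.mem_cons, List.not_mem_nil, or_false] at he
    rcases he with rfl | rfl | rfl | rfl
    · rw [K.g_zero, one_mul, mul_one]
    · exact h4.eq
    · exact h8.eq
    · rw [show (12 : Nat) = 4 ^^^ 8 by decide, K.g_xor (by norm_num) (by norm_num)]
      exact (h4.mul_left h8).eq

theorem Ctx.z_mem_CE : z ∈ K.CE := K.mem_CE.2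
  ⟨(Subgroup.mem_centralizer_singleton_iff.1 (K.P.el 4).2), (Subgroup.mem_centralizer_singleton_iff.1 (K.P.el 8).2)⟩

theorem Ctx.g_mem_CE {m : Nat} (hm : m < 2048) : K.g m ∈ K.CE :=
  K.mem_CE.2 ⟨K.g_comm (by norm_num) hm, K.g_comm (by norm_num) hm⟩

theorem Ctx.e_comm {a e : G} (ha : a ∈ K.CE) (he : e ∈ K.EG) : Commute e a := ha e he

/-- the conjugates of `z` under the centraliser of the four-group -/
def Ctx.InD (a : G) : Prop := ∃ x ∈ K.CE, x * z * x⁻¹ = a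

theorem Ctx.inD_z : K.InD z := ⟨1, one_mem _, by simp⟩

theorem Ctx.inD_conj {x a : G} (hx : x ∈ K.CE) (ha : K.InD a) : K.InD (x * a * x⁻¹) := by
  obtain ⟨y, hy, rfl⟩ := ha
  exact ⟨x * y, mul_mem hx hy, by group⟩

theorem Ctx.inD_conj_iff {x a : G} (hx : x ∈ K.CE) : K.InD (x * a * x⁻¹) ↔ K.InD a := by
  refine ⟨fun h => ?_, K.inD_conj hx⟩
  have := K.inD_conj (inv_mem hx) h
  simpa [mul_assoc] using this

theorem Ctx.inD_mem {a : G} (ha : K.InD a) : a ∈ K.CE := by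
  obtain ⟨y, hy, rfl⟩ := ha
  exact mul_mem (mul_mem hy K.z_mem_CE) (inv_mem hy)

theorem Ctx.inD_isConj {a : G} (ha : K.InD a) : IsConj z a := by
  obtain ⟨y, -, rfl⟩ := ha
  exact isConj_iff.2 ⟨y, rfl⟩

theorem Ctx.inD_sq {a : G} (ha : K.InD a) : a * a = 1 := by
  obtain ⟨y, -, rfl⟩ := ha
  have : z * z = 1 := by
    rw [← K.g_z]
    exact K.g_sq (by norm_num)
  calc y * z * y⁻¹ * (y * z * y⁻¹) = y * (z * z) * y⁻¹ := by group
    _ = 1 := by rw [this]; group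

theorem Ctx.inD_mul_e {a e : G} (ha : K.InD a) (he : e ∈ K.EG) (hne : e ≠ 1) : ¬ IsConj z (a * e) := by
  obtain ⟨y, hy, rfl⟩ := ha
  obtain ⟨n, hn, rfl⟩ := K.mem_EG.1 he
  have hn0 : n ≠ 0 := fun h => hne (by rw [h, K.g_zero])
  obtain ⟨hlt, -, hlt', htt⟩ := eL_facts n hn
  have e1 : y * z * y⁻¹ * K.g n = y * K.g (1024 ^^^ n) * y⁻¹ := by
    rw [K.g_xor (by norm_num) hlt, K.g_z, mul_assoc, ← ((K.e_comm (inv_mem hy) ⟨n, hn, rfl⟩).eq)]
    group
  intro h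
  rw [e1] at h
  exact ((K.mem_tt hlt').1 (htt hn0)).2 (h.trans (isConj_iff.2 ⟨y⁻¹, by group⟩))

theorem Ctx.inD_unique {a b : G} (ha : K.InD a) (hb : K.InD b) (h : a⁻¹ * b ∈ K.EG) : a = b := by
  by_contra hne
  exact K.inD_mul_e ha h (fun e => hne (inv_mul_eq_one.1 e)) (by
    rw [mul_inv_cancel_left]
    exact K.inD_isConj hb)

theorem list_mask {l : List Nat} {i : Nat} : (maskOf l).testBit i = true ↔ i ∈ l := testBit_maskOf l i

theorem Ctx.inD_pts {m : Nat} (hm : m < 2048) (h : K.InD (K.g m)) : m ∈ ptsL := by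
  rw [← list_mask, ptsM_ok]
  have hf := List.all_eq_true.1 ptsL_filter m (List.mem_range.2 hm)
  rw [beq_iff_eq] at hf
  obtain ⟨h0, h1⟩ := (K.conj_iff hm).1 (K.inD_isConj h)
  have he : ∀ e ∈ eL, e ≠ 0 → ttM.testBit (m ^^^ e) = true := by
    intro e he hne
    obtain ⟨hlt, -, -, -⟩ := eL_facts e he
    have hx : m ^^^ e < 2048 := Nat.xor_lt_two_pow (n := 11) hm hlt
    have hg : K.g e ≠ 1 := fun hh => hne (K.g_inj hlt (by norm_num) (hh.trans K.g_zero.symm))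
    have hn := K.inD_mul_e h ⟨e, he, rfl⟩ hg
    rw [← K.g_xor hm hlt, K.conj_iff hx] at hn
    by_contra hh
    rw [Bool.not_eq_true] at hh
    refine hn ⟨fun hx0 => ?_, hh⟩
    have hme : m = e := Nat.xor_eq_zero_iff.1 hx0
    subst hme
    simp only [eL, List.mem_cons, List.not_mem_nil, or_false] at he
    obtain ⟨t4, t8, t12, -⟩ := e_states
    rcases he with rfl | rfl | rfl | rfl
    · exact hne rfl
    · rw [t4] at h1; exact Bool.noConfusion h1
    · rw [t8] at h1; exact Bool.noConfusion h1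
    · rw [t12] at h1; exact Bool.noConfusion h1
  rw [hf, he 4 (by simp [eL]) (by norm_num), he 8 (by simp [eL]) (by norm_num),
    he 12 (by simp [eL]) (by norm_num), h1]
  simp [h0]

theorem Ctx.pt_equiv {x : G} (hx : x ∈ NA L) (i k : Fin 24) :
    x * K.g (pvF i k) * x⁻¹ = K.g (pvF (ptEquiv.symm (K.Pt.φ ⟨x, hx⟩ (ptEquiv i)))
      (ptEquiv.symm (K.Pt.φ ⟨x, hx⟩ (ptEquiv k)))) := by
  have h := K.Pt.equiv ⟨x, hx⟩ (ptEquiv i) (ptEquiv k)
  rw [K.htt, K.htt, Equiv.symm_apply_apply, Equiv.symm_apply_apply] at h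
  exact h

theorem pts_index {m : Nat} (hm : m ∈ ptsL) : ∃ x : Fin 24, x ≠ 3 ∧ x ≠ 4 ∧ x ≠ 10 ∧ pvF 10 x = m ^^^ 4 := by
  obtain ⟨i, hi, rfl⟩ := List.getElem_of_mem hm
  have h := List.all_eq_true.1 pairs_pts.1 i (List.mem_range.2 hi)
  simp only [Bool.and_eq_true, bne_iff_ne, ne_eq, decide_eq_true_eq, beq_iff_eq] at h
  obtain ⟨⟨⟨⟨hx, h3⟩, h4⟩, h10⟩, he⟩ := h
  rw [List.getD_eq_getElem _ _ hi] at he
  exact ⟨⟨ptsX.getD i 0, hx⟩, fun e => h3 (congrArg Fin.val e), fun e => h4 (congrArg Fin.val e),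
    fun e => h10 (congrArg Fin.val e), he⟩

theorem inj4 : ∀ x : Fin 24, x ≠ 3 → x ≠ 4 → x ≠ 10 → Function.Injective ![(3 : Fin 24), 4, 10, x] := by
  decide

/-- the 21 states are in the class, by the transitivity of the group on 24 points -/
theorem Ctx.pts_inD {m : Nat} (hm : m ∈ ptsL) : K.InD (K.g m) := by
  have hlt : m < 2048 := by
    have := List.all_eq_true.1 ptsL_ok m hm
    simp only [Bool.and_eq_true, decide_eq_true_eq] at this
    exact this.1.1.1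
  obtain ⟨x, hx3, hx4, hx10, hpx⟩ := pts_index hm
  haveI := Golay.multiply_pretransitive
  haveI : MulAction.IsMultiplyPretransitive Cfsg.M24 Cfsg.GolayPt 4 :=
    MulAction.isMultiplyPretransitive_of_le (n := 5) (by norm_num) (by simp [Cfsg.GolayPt])
  let e1 : Fin 4 ↪ Cfsg.GolayPt := ⟨fun i => ptEquiv (![(3 : Fin 24), 4, 10, 7] i),
    ptEquiv.injective.comp (inj4 7 (by decide) (by decide) (by decide))⟩
  let e2 : Fin 4 ↪ Cfsg.GolayPt := ⟨fun i => ptEquiv (![(3 : Fin 24), 4, 10, x] i),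
    ptEquiv.injective.comp (inj4 x hx3 hx4 hx10)⟩
  obtain ⟨⟨σ, hσ⟩, hse⟩ := MulAction.exists_smul_eq Cfsg.M24 e1 e2
  rw [← K.Pt.range_eq] at hσ
  obtain ⟨⟨g, hg⟩, rfl⟩ := hσ
  have hi : ∀ i, K.Pt.φ ⟨g, hg⟩ (ptEquiv (![(3 : Fin 24), 4, 10, 7] i)) = ptEquiv (![(3 : Fin 24), 4, 10, x] i) :=
    fun i => DFunLike.congr_fun hse i
  have q3 : ptEquiv.symm (K.Pt.φ ⟨g, hg⟩ (ptEquiv 3)) = 3 := (congrArg ptEquiv.symm (hi 0)).trans (by simp)
  have q4 : ptEquiv.symm (K.Pt.φ ⟨g, hg⟩ (ptEquiv 4)) = 4 := (congrArg ptEquiv.symm (hi 1)).trans (by simp)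
  have q10 : ptEquiv.symm (K.Pt.φ ⟨g, hg⟩ (ptEquiv 10)) = 10 := (congrArg ptEquiv.symm (hi 2)).trans (by simp)
  have q7 : ptEquiv.symm (K.Pt.φ ⟨g, hg⟩ (ptEquiv 7)) = x := (congrArg ptEquiv.symm (hi 3)).trans (by simp)
  obtain ⟨-, p4, p8, p1028⟩ := pairs_pts
  have e4 : g * K.g 4 * g⁻¹ = K.g 4 := by
    have h := K.pt_equiv hg 3 4
    rw [q3, q4] at h
    rw [show pvF 3 4 = 4 from p4] at h
    exact h
  have e8 : g * K.g 8 * g⁻¹ = K.g 8 := by
    have h := K.pt_equiv hg 3 10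
    rw [q3, q10] at h
    rw [show pvF 3 10 = 8 from p8] at h
    exact h
  have ez : g * K.g 1028 * g⁻¹ = K.g (m ^^^ 4) := by
    have h := K.pt_equiv hg 10 7
    rw [q10, q7, hpx] at h
    rw [show pvF 10 7 = 1028 from p1028] at h
    exact h
  refine ⟨g, K.mem_CE.2 ⟨(mul_inv_eq_iff_eq_mul.1 e4).symm, (mul_inv_eq_iff_eq_mul.1 e8).symm⟩, ?_⟩
  have hz : K.g 4 * K.g 1028 = z := by
    rw [← K.g_xor (by norm_num) (by norm_num), show 4 ^^^ 1028 = 1024 by decide, K.g_z]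
  refine (congrArg (fun t => g * t * g⁻¹) hz.symm).trans ?_
  rw [show g * (K.g 4 * K.g 1028) * g⁻¹ = g * K.g 4 * g⁻¹ * (g * K.g 1028 * g⁻¹) by group, e4, ez,
    ← K.g_xor (by norm_num) (Nat.xor_lt_two_pow (n := 11) hlt (by norm_num)), Nat.xor_comm m 4,
    ← Nat.xor_assoc, Nat.xor_self, Nat.zero_xor]

end Cfsg.Agent.Lib.FischerLarge58
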