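import Cfsg.Agent.Lib.FischerLarge58.ChecksA

/-!
# Checks: the moved planes and the transvections of the five cosets

Owner: helper58.
-/

set_option autoImplicit false
set_option maxRecDepth 100000

namespace Cfsg.Agent.Lib.FischerLarge58

open Cfsg.Agent.Lib.FischerLarge43 Cfsg.Agent.Lib.FischerLarge45.Model
open Cfsg.Agent.Lib.FischerLarge45.Lifts (wf)
open Cfsg.Agent.Lib.G24 (K4)
open Cfsg.Agent.Lib.U62Recog47 (V4 h4)

theorem planeW_ok : (List.range 11).all (fun k => let w := planeW.getD k []
    w.all (fun t => decide (t < 6)) && wf w 80 == 80 && wf w 160 == 160 &&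
      maskOf (uSet.map (wf w)) == planeM.getD k 0) = true := by decide +kernel

theorem fixW_ok : (List.range 16).all (fun y => (fixW.getD y []).all fun k => decide (k < 11) &&
    uSet.all fun a => let b := wf (planeW.getD k []) a
      bimg y b == b) = true := by decide +kernel

theorem cand_ok : (List.range 16).all (fun y => (List.range 4096).all fun v =>
    !(onPerp v && qq v == 0 && bimg y v == v) ||
      (fixW.getD y []).any fun k => (planeM.getD k 0).testBit v) = true := by decide +kernel

theorem transY_ok : yL.all (fun y => (List.range 4096).all fun v =>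
    !onPerp v || eqV (io (bimg y v)) (io v + h4 (io v) (pY y) • pY y)) = true := by decide +kernel

theorem pY_ok : yL.all (fun y => decide (pY y ≠ 0) && decide (h4 (pY y) (pY y) = 0) &&
    decide (y < 16)) = true := by decide +kernel

/-- the centre of the transvection over `y` moved by word `k` -/
def pYW (k y : Nat) : V4 := io (wf (planeW.getD k []) (sec (pY y)))

theorem orth_ok : yL.all (fun y => (List.range 256).all fun i => let p := p256 i
    !(decide (p ≠ 0) && decide (h4 p p = 0) && decide (h4 p (pY y) = 0)) ||
      (fixW.getD y []).any fun k => yL.any fun y' =>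
        [K4.e, K4.w, K4.v].any fun l => eqV p (l • pYW k y')) = true := by decide +kernel

theorem cover_ok : (List.range 256).all (fun i => let p := p256 i
    !(decide (p ≠ 0) && decide (h4 p p = 0)) ||
      (List.range 11).any fun k => yL.any fun y' =>
        [K4.e, K4.w, K4.v].any fun l => eqV p (l • pYW k y')) = true := by decide +kernel

theorem plane_state : ptsL.all (fun m => (fixW.getD ((m >>> 6) &&& 15) []).all fun k =>
    (planeM.getD k 0).testBit (uvec (m &&& 63))) = true := by decide +kernel

theorem two_fix : (List.range' 1 15).all (fun y => (List.range' 1 15).all fun y' => y == y' ||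
    (List.range 4096).all fun v => !((v &&& 819) == 0 && v != 0) || bimg y v != v || bimg y' v != v) = true := by
  decide +kernel

theorem compl_ok : (List.range 4096).all (fun v => ((v ^^^ uvec (ucode v)) &&& 819) == 0) = true := by
  decide +kernel

end Cfsg.Agent.Lib.FischerLarge58
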