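import Cfsg.Agent.Lib.FischerLarge58.Local
import Cfsg.Agent.Lib.FischerLarge58.ChecksB

/-!
# An element centralising an involution of `A` outside the four-group moves one of the 21 to one

Three kinds of involutions modulo the four-group: a point (fixed), a pair and a triangle.  For a
triangle the centraliser normalises `A`; for a pair it carries a suitable point into `A`.

Owner: helper58.
-/

set_option autoImplicit false
set_option linter.style.haveILetI false
set_option linter.unusedSectionVars false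
set_option maxRecDepth 100000

namespace Cfsg.Agent.Lib.FischerLarge58

open Cfsg.Agent.Lib.LargeFischer13
open Cfsg.Agent.Lib.FischerLarge43
open Cfsg.Agent.Lib.FischerLarge45 (Local Wof zc zc_comm)
open Cfsg.Agent.Lib.FischerLarge45.Model (omega uSet)

attribute [local instance] Bridge.acg Bridge.fin Bridge.act

theorem tt_y0 : (List.range 2048).all (fun m => !(ttM.testBit m && ((m >>> 6) &&& 15) == 0) ||
    uList.contains m) = true := by decide +kernel

theorem bimg_uSet : (List.range 16).all (fun y => uSet.all fun a => bimg y a == a) = true := by decide +kernel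

universe u

variable {G : Type u} [Group G] [Finite G] {z : G} {Q : Subgroup (Cz z)} [Q.Normal]
variable {L : Local z Q} (K : Ctx L)

/-- an element fixing the plane normalises `A` -/
theorem normalise_plane {c : Cz z} (hc : ∀ a ∈ uSet, L.S.ac (QuotientGroup.mk c) a ∈ uSet) :
    (c : G) ∈ NA L := by
  have hU : ∀ u ∈ L.U, c * u * c⁻¹ ∈ L.U := fun u hu => by
    obtain ⟨huQ, a, ha, ea⟩ := (L.mem_U u).1 hu
    exact mem_U_of_code L (q := ⟨c * u * c⁻¹, Subgroup.Normal.conj_mem inferInstance _ huQ c⟩) (hc a ha)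
      (π_conj_code L c ⟨u, huQ⟩ (FischerLarge45.uSet_facts a ha).1 ea.symm
        (f := L.S.ac (QuotientGroup.mk c)) rfl rfl)
  refine mem_NA L fun a ha => centralizer_U L fun u hu => ?_
  let f : L.U → L.U := fun v => ⟨c * v.1 * c⁻¹, hU v.1 v.2⟩
  have hf : Function.Injective f := fun v w e => Subtype.ext (by simpa [f] using congrArg Subtype.val e)
  obtain ⟨v, hv⟩ := Finite.injective_iff_surjective.1 hf ⟨u, hu⟩
  have hv' : c * v.1 * c⁻¹ = u := congrArg Subtype.val hv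
  have h := (((L.data.mem_W).1 ha).2 v.1 v.2 : Commute v.1 a).map (MulAut.conj c)
  rw [← hv']
  simpa using h.symm

theorem Ctx.g_mem_uList {m : Nat} (hm : m ∈ uList) : m < 2048 ∧ (m >>> 6) &&& 15 = 0 := by
  obtain ⟨h, -⟩ := ttList_lt (cb := cb0) (List.mem_append.2 (Or.inl hm))
  have h' := List.all_eq_true.1 tt_sym.2 m hm
  simp only [Bool.and_eq_true, decide_eq_true_eq] at h'
  exact ⟨h, h'.2⟩

theorem Ctx.el_Q {m : Nat} (hm : m ∈ uList) : ∃ q : Q, (q : Cz z) = K.P.el m ∧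
    L.br.π q = L.S.E (uvec (m &&& 63)) := by
  obtain ⟨-, hy⟩ := Ctx.g_mem_uList hm
  have hu : m &&& 63 < 64 := lt_of_le_of_lt Nat.and_le_right (by norm_num)
  refine ⟨⟨sU L (m &&& 63), L.data.hUQ (sU_mem L hu)⟩ *
    ⟨zb ((m >>> 10 : Nat) : ZMod 2), L.data.hUQ (zb_mem L _)⟩, ?_, ?_⟩
  · show sU L _ * zb _ = _
    rw [Base.el, hy, show K.P.eY 0 = 1 by simp [Base.eY], mul_one]
  · rw [L.br.π_mul, π_sU L hu rfl, π_zb L _ rfl, add_zero]

theorem Ctx.auto_of {h : G} (hh : h ∈ NA L) : ∃ f : Nat → Nat, Auto cb0 f ∧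
    ∀ j, f j < 2048 ∧ K.g (f j) = h⁻¹ * K.g j * h := by
  obtain ⟨f, hf⟩ := K.P.conj_fun (inv_mem hh)
  exact ⟨f, K.P.auto K.hP hf, fun j => ⟨(hf j).1, by rw [← inv_inv h] at *; simpa using (hf j).2⟩⟩

theorem Auto.tt {cb : Nat} {f : Nat → Nat} (hf : Auto cb f) (hcb : cb = cb0) {a : Nat} (ha : a < 2048) :
    ttM.testBit (f a) = ttM.testBit a := by
  subst hcb
  rw [Bool.eq_iff_iff, ← ttM_ok, mask_iff, mask_iff]
  exact hf.mem a ha

/-- a conjugate of the class carries `z` onto a state and so normalises nothing new -/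
theorem Ctx.exists_move {m : Nat} (hm : m < 2048) (hm0 : m ≠ 0) (htt : ttM.testBit m = false) :
    ∃ h ∈ NA L, h * z * h⁻¹ = K.g m := by
  obtain ⟨S, -, hA⟩ := exists_sylow L
  obtain ⟨g, hg⟩ := isConj_iff.1 ((K.conj_iff hm).2 ⟨hm0, htt⟩)
  obtain ⟨h, hh, e⟩ := fusion hA (a := z) ⟨zc z, L.data.U_le_W L.data.hzU, rfl⟩ (g := g) (hg.symm ▸ K.g_mem)
  exact ⟨h, hh, e.trans hg⟩

theorem Ctx.back_A {m : Nat} {g : G} (hg : g ∈ K.CE) (hm : m ∈ ptsL) (h : g * K.g m * g⁻¹ ∈ AG L) :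
    ∃ b ∈ ptsL, g * K.g m * g⁻¹ = K.g b := by
  obtain ⟨b, hb, e⟩ := (mem_AG (P := K.P)).1 h
  refine ⟨b, K.inD_pts hb ?_, e.symm⟩
  show K.InD (K.P.el b : G)
  rw [e]
  exact K.inD_conj hg (K.pts_inD hm)

/-- the centraliser of a triangle normalises `A` -/
theorem Ctx.cent_triangle {m : Nat} (hm : m < 2048) (hm0 : m ≠ 0)
    (htri : ∀ e ∈ eL, ttM.testBit (m ^^^ e) = false) {g : G} (hg : g ∈ K.CE) (hc : Commute g (K.g m)) :
    g ∈ NA L := by
  have hm' : ttM.testBit m = false := by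
    have := htri 0 (by simp [eL])
    rwa [Nat.xor_zero] at this
  obtain ⟨h, hh, ez⟩ := K.exists_move hm hm0 hm'
  obtain ⟨f, hf, hfe⟩ := K.auto_of hh
  have hfm : f m = 1024 := K.g_inj (hfe m).1 (by norm_num) (by rw [(hfe m).2, K.g_z, ← ez]; group)
  have hy : ∀ e ∈ eL, e ≠ 0 → ((f e >>> 6) &&& 15) ≠ 0 := by
    intro e he hne h0
    obtain ⟨hlt, -⟩ := eL_facts e he
    have h1 : ttM.testBit (f e) = true := by
      rw [Auto.tt hf rfl hlt]
      obtain ⟨t4, t8, t12, -⟩ := e_states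
      simp only [eL, List.mem_cons, List.not_mem_nil, or_false] at he
      rcases he with rfl | rfl | rfl | rfl
      exacts [absurd rfl hne, t4, t8, t12]
    have h2 := List.all_eq_true.1 tt_y0 (f e) (List.mem_range.2 (hfe e).1)
    simp only [h1, h0, beq_self_eq_true, Bool.and_self, Bool.not_true, Bool.false_or,
      List.contains_iff_mem] at h2
    have h3 := List.all_eq_true.1 tt_sym.2 _ h2
    simp only [Bool.and_eq_true] at h3
    rw [← hfm, ← hf.add e hlt m hm, Auto.tt hf rfl (Nat.xor_lt_two_pow (n := 11) hlt hm), Nat.xor_comm,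
      htri e he] at h3
    exact Bool.noConfusion h3.1
  set g' := h⁻¹ * g * h with hg'
  have hg'z : g' * z = z * g' := by
    rw [hg', show z = h⁻¹ * K.g m * h by rw [← ez]; group]
    calc h⁻¹ * g * h * (h⁻¹ * K.g m * h) = h⁻¹ * (g * K.g m) * h := by group
      _ = h⁻¹ * (K.g m * g) * h := by rw [hc.eq]
      _ = _ := by group
  set c : Cz z := ⟨g', Subgroup.mem_centralizer_singleton_iff.2 hg'z⟩
  have hcy : ∀ e ∈ eL, ∀ v < 4096, L.S.ac (QuotientGroup.mk c) (bimg ((f e >>> 6) &&& 15) v) =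
      bimg ((f e >>> 6) &&& 15) (L.S.ac (QuotientGroup.mk c) v) := by
    intro e he v hv
    have hcm : Commute c (K.P.el (f e)) := Subtype.ext (by
      show g' * K.g (f e) = K.g (f e) * g'
      rw [(hfe e).2, hg']
      calc h⁻¹ * g * h * (h⁻¹ * K.g e * h) = h⁻¹ * (g * K.g e) * h := by group
        _ = h⁻¹ * (K.g e * g) * h := by rw [(K.e_comm hg ⟨e, he, rfl⟩).eq]
        _ = _ := by group)
    have hq : (QuotientGroup.mk c : (Cz z) ⧸ Q) * QuotientGroup.mk (K.P.eY ((f e >>> 6) &&& 15)) =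
        QuotientGroup.mk (K.P.eY ((f e >>> 6) &&& 15)) * QuotientGroup.mk c := by
      rw [← K.P.mk_el, ← QuotientGroup.mk_mul, ← QuotientGroup.mk_mul, hcm.eq]
    rw [← K.P.ac_eY _ hv, ← L.S.ac_mul, hq, L.S.ac_mul, K.P.ac_eY _ (L.S.ac_lt _ _)]
  have hne : (f 4 >>> 6) &&& 15 ≠ (f 8 >>> 6) &&& 15 := by
    intro h0
    refine hy 12 (by simp [eL]) (by norm_num) ?_
    rw [show (12 : Nat) = 4 ^^^ 8 by decide, hf.add 4 (by norm_num) 8 (by norm_num),
      Nat.shiftRight_xor_distrib, Nat.and_xor_distrib_right, h0, Nat.xor_self]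
  have hplane : ∀ a ∈ uSet, L.S.ac (QuotientGroup.mk c) a ∈ uSet := by
    intro a ha
    have ha4 := (FischerLarge45.uSet_facts a ha).1
    have hlt16 : ∀ n : Nat, n &&& 15 < 16 := fun n => lt_of_le_of_lt Nat.and_le_right (by norm_num)
    set w := L.S.ac (QuotientGroup.mk c) a with hw
    have hw4 := L.S.ac_lt (QuotientGroup.mk c) a
    have hfix : ∀ e ∈ eL, bimg ((f e >>> 6) &&& 15) w = w := by
      intro e he
      rw [hw, ← hcy e he a ha4]
      have h := List.all_eq_true.1 (List.all_eq_true.1 bimg_uSet _ (List.mem_range.2 (hlt16 (f e >>> 6)))) a ha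
      rw [beq_iff_eq.1 h]
    have hu : uvec (ucode w) ∈ uSet := by
      have h6 : ucode w < 64 := by
        unfold ucode
        refine Nat.or_lt_two_pow (n := 6) (Nat.or_lt_two_pow (n := 6) ?_ ?_) ?_
        · exact lt_of_le_of_lt Nat.and_le_right (by norm_num)
        · rw [Nat.shiftLeft_eq]
          have : (w >>> 4) &&& 3 ≤ 3 := Nat.and_le_right
          omega
        · rw [Nat.shiftLeft_eq]
          have : (w >>> 8) &&& 3 ≤ 3 := Nat.and_le_right
          omega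
      exact (uvec_spec h6).2.2
    set d := w ^^^ uvec (ucode w) with hd
    have hd4 : d < 4096 := Nat.xor_lt_two_pow (n := 12) hw4 (FischerLarge45.uSet_facts _ hu).1
    have hdfix : ∀ e ∈ eL, bimg ((f e >>> 6) &&& 15) d = d := by
      intro e he
      rw [hd, bimg_xor, hfix e he,
        beq_iff_eq.1 (List.all_eq_true.1 (List.all_eq_true.1 bimg_uSet _ (List.mem_range.2 (hlt16 (f e >>> 6)))) _ hu)]
    have hd819 : d &&& 819 = 0 := by
      have := List.all_eq_true.1 compl_ok w (List.mem_range.2 hw4)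
      simpa using this
    have hy4 := hy 4 (by simp [eL]) (by norm_num)
    have hy8 := hy 8 (by simp [eL]) (by norm_num)
    have h2 := List.all_eq_true.1 (List.all_eq_true.1 two_fix _
      (List.mem_range'_1.2 ⟨Nat.pos_of_ne_zero hy4, by have := hlt16 (f 4 >>> 6); omega⟩)) _
      (List.mem_range'_1.2 ⟨Nat.pos_of_ne_zero hy8, by have := hlt16 (f 8 >>> 6); omega⟩)
    simp only [Bool.or_eq_true, beq_iff_eq, hne, false_or, List.all_eq_true, List.mem_range] at h2
    have h3 := h2 d hd4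
    simp only [hd819, hdfix 4 (by simp [eL]), hdfix 8 (by simp [eL]), beq_self_eq_true, Bool.true_and,
      Bool.not_eq_true', bne_self_eq_false, Bool.false_eq_true, or_false] at h3
    have hd0 : d = 0 := by simpa using h3
    rw [hd] at hd0
    rw [Nat.xor_eq_zero_iff.1 hd0]
    exact hu
  have hn : g' ∈ NA L := normalise_plane (c := c) hplane
  have : g = h * g' * h⁻¹ := by rw [hg']; group
  rw [this]
  exact mul_mem (mul_mem hh hn) (inv_mem hh)

/-- the centraliser of a pair carries a point into `A` -/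
theorem Ctx.cent_pair {m : Nat} (hm : m < 2048) (hme : m ∉ eL) (hp : pairW m = true) {g : G} (hg : g ∈ K.CE)
    (hc : Commute g (K.g m)) : ∃ a ∈ ptsL, g * K.g a * g⁻¹ ∈ AG L := by
  simp only [pairW, List.any_eq_true, Bool.and_eq_true, Bool.not_eq_true'] at hp
  obtain ⟨a, ha, e1, he1, p1, hp1, e3, he3, ⟨⟨⟨⟨⟨hz1, t1⟩, t2⟩, t12⟩, u1⟩, u2⟩, u12⟩ := hp
  have ha' : a < 2048 := by
    have := List.all_eq_true.1 ptsL_ok a ha
    simp only [Bool.and_eq_true, decide_eq_true_eq] at this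
    exact this.1.1.1
  have h1 := (eL_facts e1 he1).1
  have h3 := (eL_facts e3 he3).1
  have hp1' := (eL_facts p1 hp1).1
  set z1 := m ^^^ e1 with hz1'
  set p2 := a ^^^ e3 with hp2'
  have hz1lt : z1 < 2048 := Nat.xor_lt_two_pow (n := 11) hm h1
  have hp2lt : p2 < 2048 := Nat.xor_lt_two_pow (n := 11) ha' h3
  have hp12 : p1 ^^^ p2 < 2048 := Nat.xor_lt_two_pow (n := 11) hp1' hp2lt
  have hz0 : z1 ≠ 0 := fun h0 => hme (by
    rw [Nat.xor_eq_zero_iff.1 h0]; exact he1)
  obtain ⟨h, hh, ez⟩ := K.exists_move hz1lt hz0 hz1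
  obtain ⟨f, hf, hfe⟩ := K.auto_of hh
  have hfz : f z1 = 1024 := K.g_inj (hfe z1).1 (by norm_num) (by rw [(hfe z1).2, K.g_z, ← ez]; group)
  have hu : ∀ p < 2048, ttM.testBit p = true → ttM.testBit (z1 ^^^ p) = true → f p ∈ uList := by
    intro p hp t u
    have h' := List.all_eq_true.1 tt_sym.1 (f p) (List.mem_range.2 (hfe p).1)
    rw [Auto.tt hf rfl hp, t, ← hfz, ← hf.add p hp z1 hz1lt,
      Auto.tt hf rfl (Nat.xor_lt_two_pow (n := 11) hp hz1lt), Nat.xor_comm, u] at h'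
    simpa using h'
  have hu1 := hu p1 hp1' t1 u1
  have hu2 := hu p2 hp2lt t2 u2
  have hu12 := hu _ hp12 t12 (by rw [← Nat.xor_assoc]; exact u12)
  rw [hf.add p1 hp1' p2 hp2lt] at hu12
  have hl := List.all_eq_true.1 (List.all_eq_true.1 tt_line _ hu1) _ hu2
  simp only [List.contains_iff_mem.2 hu12, Bool.not_true, Bool.false_or, Bool.or_eq_true, beq_iff_eq] at hl
  have hcz1 : Commute g (K.g z1) := by
    rw [K.g_xor hm h1]
    exact hc.mul_right (K.e_comm hg ⟨e1, he1, rfl⟩).symm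
  set g' := h⁻¹ * g * h with hg'
  have hconj : ∀ x : G, Commute g x → g' * (h⁻¹ * x * h) = h⁻¹ * x * h * g' := by
    intro x hx
    rw [hg']
    calc h⁻¹ * g * h * (h⁻¹ * x * h) = h⁻¹ * (g * x) * h := by group
      _ = h⁻¹ * (x * g) * h := by rw [hx.eq]
      _ = _ := by group
  have hg'z : g' * z = z * g' := by
    rw [show z = h⁻¹ * K.g z1 * h by rw [← ez]; group]
    exact hconj _ hcz1
  set c : Cz z := ⟨g', Subgroup.mem_centralizer_singleton_iff.2 hg'z⟩
  obtain ⟨q1, eq1, c1⟩ := K.el_Q hu1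
  obtain ⟨q2, eq2, c2⟩ := K.el_Q hu2
  set α := uvec (f p1 &&& 63)
  have hα := uvec_spec (show f p1 &&& 63 < 64 from lt_of_le_of_lt Nat.and_le_right (by norm_num))
  have hfix : L.S.ac (QuotientGroup.mk c) α = α := by
    refine L.S.E_inj (L.S.ac_lt _ _) hα.2.1 ?_
    rw [L.S.E_ac, ← c1]
    refine L.br.π_conj c q1 q1 (Subtype.ext ?_)
    have := hconj _ (K.e_comm hg ⟨p1, hp1, rfl⟩).symm
    rw [← (hfe p1).2] at this
    show ((q1 : Cz z) : G) = g' * ((q1 : Cz z) : G) * g'⁻¹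
    rw [eq1, show ((K.P.el (f p1) : Cz z) : G) = K.g (f p1) from rfl, this, mul_inv_cancel_right]
  have hom : L.S.ac (QuotientGroup.mk c) (omega α) ∈ uSet ∧
      L.S.ac (QuotientGroup.mk c) (omega (omega α)) ∈ uSet := by
    have f1 := (FischerLarge45.uSet_facts α hα.2.2).2.1
    have f2 := (FischerLarge45.uSet_facts _ f1).2.1
    have f3 := (FischerLarge45.uSet_facts _ f2).2.1
    have f4 := (FischerLarge45.uSet_facts _ f3).2.1
    have ho := FischerLarge45.Codes.omega_lt hα.2.1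
    rcases ac_omega_or L (QuotientGroup.mk c) with h | h
    · rw [h _ ho, h _ hα.2.1, hfix]; exact ⟨f1, f2⟩
    · rw [h _ ho, h _ hα.2.1, hfix]; exact ⟨f2, f4⟩
  have hq : L.S.ac (QuotientGroup.mk c) (uvec (f p2 &&& 63)) ∈ uSet := by
    rcases hl with e | e <;> rw [e]
    exacts [hom.1, hom.2]
  have hU : c * (q2 : Cz z) * c⁻¹ ∈ L.U :=
    mem_U_of_code L (q := ⟨c * q2 * c⁻¹, Subgroup.Normal.conj_mem inferInstance _ q2.2 c⟩) hq
      (π_conj_code L c q2 (uvec_spec (lt_of_le_of_lt Nat.and_le_right (by norm_num))).2.1 c2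
        (f := L.S.ac (QuotientGroup.mk c)) rfl rfl)
  refine ⟨a, ha, ?_⟩
  have hA : g' * K.g (f p2) * g'⁻¹ ∈ AG L := ⟨_, L.data.U_le_W hU, by
    show ((c * (q2 : Cz z) * c⁻¹ : Cz z) : G) = _
    rw [eq2]
    rfl⟩
  have hA2 : g * K.g p2 * g⁻¹ ∈ AG L := by
    have := (Subgroup.mem_normalizer_iff.1 hh _).1 hA
    rw [(hfe p2).2, hg', show h * (h⁻¹ * g * h * (h⁻¹ * K.g p2 * h) * (h⁻¹ * g * h)⁻¹) * h⁻¹ =
      g * K.g p2 * g⁻¹ by group] at this
    exact this
  have hA3 : g * K.g e3 * g⁻¹ ∈ AG L := by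
    rw [← (K.e_comm hg ⟨e3, he3, rfl⟩).eq, mul_inv_cancel_right]
    exact K.g_mem
  have hfin := (AG L).mul_mem hA2 hA3
  rwa [show g * K.g p2 * g⁻¹ * (g * K.g e3 * g⁻¹) = g * (K.g p2 * K.g e3) * g⁻¹ by group,
    ← K.g_xor hp2lt h3, hp2', Nat.xor_assoc, Nat.xor_self, Nat.xor_zero] at hfin

/-- Centralisers of involutions move a point to a point. -/
theorem Ctx.cent_pts {m : Nat} (hm : m < 2048) (hme : m ∉ eL) {g : G} (hg : g ∈ K.CE)
    (hc : Commute g (K.g m)) : ∃ a ∈ ptsL, ∃ b ∈ ptsL, g * K.g a * g⁻¹ = K.g b := by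
  have hcls := List.all_eq_true.1 states_class m (List.mem_range.2 hm)
  simp only [Bool.or_eq_true, List.contains_iff_mem, hme, false_or] at hcls
  rcases hcls with (hpt | htri) | hp
  · obtain ⟨e, he, ht⟩ := List.any_eq_true.1 hpt
    rw [← ptsM_ok, testBit_maskOf] at ht
    refine ⟨_, ht, _, ht, ?_⟩
    rw [mul_inv_eq_iff_eq_mul, K.g_xor hm (eL_facts e he).1]
    exact (hc.mul_right (K.e_comm hg ⟨e, he, rfl⟩).symm).eq
  · have hm0 : m ≠ 0 := fun h => hme (h ▸ by simp [eL])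
    have hn := K.cent_triangle hm hm0 (fun e he => by
      have := List.all_eq_true.1 htri e he
      simpa using this) hg hc
    have hz : (1024 : Nat) ∈ ptsL := by decide
    obtain ⟨b, hb, e⟩ := K.back_A hg hz ((Subgroup.mem_normalizer_iff.1 hn _).1 K.g_mem)
    exact ⟨_, hz, b, hb, e⟩
  · obtain ⟨a, ha, hA⟩ := K.cent_pair hm hme hp hg hc
    obtain ⟨b, hb, e⟩ := K.back_A hg ha hA
    exact ⟨a, ha, b, hb, e⟩

end Cfsg.Agent.Lib.FischerLarge58
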