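import Cfsg.Agent.Lib.FischerLarge58.Local
import Cfsg.Agent.Lib.U62Recog47.Defs

/-!
# The perp set of `z` in `C(E)/E` is the perp set of a transvection of U6(2)

Owner: helper58.
-/

set_option autoImplicit false
set_option linter.style.haveILetI false
set_option linter.unusedSectionVars false
set_option maxRecDepth 100000

namespace Cfsg.Agent.Lib.FischerLarge58

open Cfsg.Agent.Lib.LargeFischer13
open Cfsg.Agent.Lib.FischerLarge43
open Cfsg.Agent.Lib.FischerLarge45 (Local Wof zc zc_comm zc_cases)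
open Cfsg.Agent.Lib.G24 (K4)
open Cfsg.Agent.Lib.U62Recog47 (V4 h4 Iso Host Chart perp)

attribute [local instance] Bridge.acg Bridge.fin Bridge.act

/-- four isotropic vectors with trivial common perp -/
def sepL : List V4 := [![1, 1, 0, 0], ![1, K4.w, 0, 0], ![0, 0, 1, 1], ![0, 0, 1, K4.w]]

theorem sep_ok : sepL.all (fun n => decide (n ≠ 0) && decide (h4 n n = 0)) = true ∧
    (List.range 256).all (fun k => eqV (p256 k) 0 || sepL.any fun n => decide (h4 n (p256 k) ≠ 0)) = true := by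
  decide +kernel

/-- the first non-zero coordinate -/
def lead (p : V4) : K4 :=
  if p 0 ≠ 0 then p 0 else if p 1 ≠ 0 then p 1 else if p 2 ≠ 0 then p 2 else p 3

theorem lead_ne {p : V4} (hp : p ≠ 0) : lead p ≠ 0 := by
  unfold lead
  split_ifs with h0 h1 h2 <;> try assumption
  intro h3
  refine hp (funext fun i => ?_)
  push Not at h0 h1 h2
  fin_cases i <;> simp [h0, h1, h2, h3]

theorem lead_smul {p : V4} {l : K4} (hl : l ≠ 0) : lead (l • p) = l * lead p := by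
  have hne : ∀ a : K4, l * a ≠ 0 ↔ a ≠ 0 := fun a => ⟨fun h e => h (by rw [e, mul_zero]), mul_ne_zero hl⟩
  simp only [lead, Pi.smul_apply, smul_eq_mul, hne]
  split_ifs <;> rfl

/-- the representative of the line -/
def rep (p : V4) : V4 := (lead p)⁻¹ • p

theorem rep_smul {p : V4} (hp : p ≠ 0) {l : K4} (hl : l ≠ 0) : rep (l • p) = rep p := by
  rw [rep, rep, lead_smul hl, smul_smul, mul_inv_rev, mul_assoc, inv_mul_cancel₀ hl, mul_one]

theorem rep_eq {p : V4} (hp : p ≠ 0) : p = lead p • rep p := by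
  rw [rep, smul_smul, mul_inv_cancel₀ (lead_ne hp), one_smul]

theorem rep_iso {p : V4} (h : Iso p) : Iso (rep p) :=
  ⟨smul_ne_zero (inv_ne_zero (lead_ne h.1)) h.1, by rw [rep, h4_smul_left, h4_smul_right, h.2, mul_zero, mul_zero]⟩

theorem exists_h4_eq {n : V4} (hn : n ≠ 0) (c : K4) : ∃ x : V4, h4 n x = c := by
  obtain ⟨x, hx⟩ := exists_h4_ne hn
  have hx' : h4 n x ≠ 0 := by
    rw [h4_symm]
    exact mul_ne_zero hx hx
  refine ⟨(c * (h4 n x)⁻¹ * (c * (h4 n x)⁻¹)) • x, ?_⟩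
  rw [h4_smul_right, four_eq, inv_mul_cancel_right₀ hx']

theorem h4_flip {x y : V4} : h4 x y = 0 ↔ h4 y x = 0 := by
  constructor <;> intro h <;> rw [h4_symm, h, mul_zero]

universe u

variable {G : Type u} [Group G] [Finite G] {z : G} {Q : Subgroup (Cz z)} [Q.Normal]
variable {L : Local z Q} (K : Ctx L)

/-- the four-group inside its centraliser -/
noncomputable def Ctx.EC : Subgroup K.CE := K.EG.subgroupOf K.CE

instance Ctx.EC_normal : K.EC.Normal := ⟨fun n hn g => by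
  show ((g * n * g⁻¹ : K.CE) : G) ∈ K.EG
  have h : Commute (n : G) (g : G) := K.e_comm g.2 hn
  rw [show ((g * n * g⁻¹ : K.CE) : G) = (g : G) * n * (g : G)⁻¹ from rfl, ← h.eq, mul_inv_cancel_right]
  exact hn⟩

/-- the centraliser modulo the four-group -/
abbrev Ctx.KE : Type u := K.CE ⧸ K.EC

theorem Ctx.mk_eq {a b : K.CE} : (QuotientGroup.mk a : K.KE) = QuotientGroup.mk b ↔ (a : G)⁻¹ * b ∈ K.EG := by
  rw [QuotientGroup.eq]
  exact Iff.rfl

/-- the class in the quotient -/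
def Ctx.DE : Set K.KE := {x | ∃ a : K.CE, K.InD (a : G) ∧ (QuotientGroup.mk a : K.KE) = x}

/-- the image of `z` -/
noncomputable def Ctx.zE : K.KE := QuotientGroup.mk ⟨z, K.z_mem_CE⟩

theorem Ctx.zE_mem : K.zE ∈ K.DE := ⟨_, K.inD_z, rfl⟩

theorem Ctx.lift_inj {a b : K.CE} (ha : K.InD (a : G)) (hb : K.InD (b : G))
    (h : (QuotientGroup.mk a : K.KE) = QuotientGroup.mk b) : a = b :=
  Subtype.ext (K.inD_unique ha hb (K.mk_eq.1 h))

/-- members of the class commute when their images do -/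
theorem Ctx.lift_comm {a b : K.CE} (hb : K.InD (b : G))
    (h : Commute (QuotientGroup.mk a : K.KE) (QuotientGroup.mk b)) : Commute a b := by
  have e : a * b * a⁻¹ = b := by
    refine K.lift_inj (K.inD_conj a.2 hb) hb ?_
    rw [QuotientGroup.mk_mul, QuotientGroup.mk_mul, QuotientGroup.mk_inv, h.eq, mul_inv_cancel_right]
  exact mul_inv_eq_iff_eq_mul.1 e

/-- the map into the quotient -/
noncomputable def Ctx.φ : ↥K.C1 →* K.KE :=
  (QuotientGroup.mk' K.EC).comp (MonoidHom.mk' (fun c => (⟨(c.1 : G), c.2⟩ : K.CE)) fun _ _ => rfl)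

open Classical in
/-- the image of an element of `C(z)` -/
noncomputable def Ctx.tK (X : Cz z) : K.KE := if h : X ∈ K.C1 then K.φ ⟨X, h⟩ else 1

theorem Ctx.tK_eq {X : Cz z} (h : X ∈ K.C1) : K.tK X = K.φ ⟨X, h⟩ := dif_pos h

theorem Ctx.tK_mul {X Y : Cz z} (hX : X ∈ K.C1) (hY : Y ∈ K.C1) : K.tK (X * Y) = K.tK X * K.tK Y := by
  rw [K.tK_eq hX, K.tK_eq hY, K.tK_eq (mul_mem hX hY), ← map_mul]
  rfl

theorem Ctx.tK_one : K.tK 1 = 1 := by
  rw [K.tK_eq (one_mem _)]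
  exact map_one _

theorem Ctx.tK_inv {X : Cz z} (hX : X ∈ K.C1) : K.tK X⁻¹ = (K.tK X)⁻¹ := by
  rw [K.tK_eq hX, K.tK_eq (inv_mem hX), ← map_inv]
  rfl

theorem Ctx.tK_conj {c X : Cz z} (hc : c ∈ K.C1) (hX : X ∈ K.C1) :
    K.tK (c * X * c⁻¹) = K.tK c * K.tK X * (K.tK c)⁻¹ := by
  rw [K.tK_mul (mul_mem hc hX) (inv_mem hc), K.tK_mul hc hX, K.tK_inv hc]

theorem Ctx.tK_zc : K.tK (zc z) = K.zE := K.tK_eq K.zc_mem_C1

theorem Ctx.tK_inj {X Y : Cz z} (hX : K.InD (X : G)) (hY : K.InD (Y : G)) (h : K.tK X = K.tK Y) : X = Y := by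
  rw [K.tK_eq (show X ∈ K.C1 from K.inD_mem hX), K.tK_eq (show Y ∈ K.C1 from K.inD_mem hY)] at h
  exact Subtype.ext (congrArg Subtype.val
    (K.lift_inj (a := ⟨(X : G), K.inD_mem hX⟩) (b := ⟨(Y : G), K.inD_mem hY⟩) hX hY h) :)

theorem Ctx.tK_perp {X : Cz z} (hX : K.Near X) : K.tK X ∈ perp K.DE K.zE := by
  refine ⟨⟨⟨(X : G), K.near_mem hX⟩, hX.1, (K.tK_eq (K.near_mem hX)).symm⟩, fun h => hX.2 ?_, ?_⟩
  · exact K.tK_inj hX.1 K.inD_z (by rw [h, K.tK_zc])
  · rw [← K.tK_zc, Commute, SemiconjBy, ← K.tK_mul K.zc_mem_C1 (K.near_mem hX),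
      ← K.tK_mul (K.near_mem hX) K.zc_mem_C1, (zc_comm X).eq]

theorem Ctx.perp_near {x : K.KE} (hx : x ∈ perp K.DE K.zE) : ∃ X, K.Near X ∧ K.tK X = x := by
  obtain ⟨⟨a, ha, rfl⟩, hne, hc⟩ := hx
  have hcomm := K.lift_comm ha hc
  let X : Cz z := ⟨a, Subgroup.mem_centralizer_singleton_iff.2 (congrArg Subtype.val hcomm.eq).symm⟩
  refine ⟨X, ⟨ha, fun h => hne ?_⟩, K.tK_eq (show X ∈ K.C1 from a.2)⟩
  exact congrArg QuotientGroup.mk (Subtype.ext (congrArg Subtype.val h :) : a = ⟨z, K.z_mem_CE⟩)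

theorem Ctx.pre_C1 (x : V4) : (pre L (sec x) : Cz z) ∈ K.C1 :=
  (K.mem_C1_Q _ (sec_spec x).2.2 (π_pre L _)).2 (sec_spec x).2.1

/-- translations fix exactly the orthogonal offsets -/
theorem Ctx.conj_eq_iff {X : Cz z} (hX : K.Near X) {n : V4} (hn : Trans L (QuotientGroup.mk X) n)
    (hn0 : n ≠ 0) (q q' : Q) (hq : (q : Cz z) ∈ K.C1) (hq' : (q' : Cz z) ∈ K.C1) {v v' : Nat}
    (hv : v < 4096) (hv' : v' < 4096) (ev : L.br.π q = L.S.E v) (ev' : L.br.π q' = L.S.E v') :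
    (q : Cz z) * X * (q : Cz z)⁻¹ = (q' : Cz z) * X * (q' : Cz z)⁻¹ ↔ h4 n (io v) = h4 n (io v') := by
  have hvv : v' ^^^ v < 4096 := Nat.xor_lt_two_pow (n := 12) hv' hv
  have hπ : L.br.π (q'⁻¹ * q) = L.S.E (v' ^^^ v) := by rw [L.br.π_mul, L.br.π_inv, ev, ev', L.S.E_xor]
  have hC : ((q'⁻¹ * q : Q) : Cz z) ∈ K.C1 := mul_mem (inv_mem hq') hq
  have hzero : h4 (io (v' ^^^ v)) n = 0 ↔ h4 n (io v) = h4 n (io v') := by
    rw [h4_flip, io_xor, h4_add_right]
    have hK : ∀ a b : K4, a + b = 0 ↔ b = a := by decide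
    exact hK _ _
  have hconj : (q : Cz z) * X * (q : Cz z)⁻¹ = (q' : Cz z) * X * (q' : Cz z)⁻¹ ↔
      ((q'⁻¹ * q : Q) : Cz z) * X * ((q'⁻¹ * q : Q) : Cz z)⁻¹ = X := by
    show _ ↔ (q' : Cz z)⁻¹ * q * X * ((q' : Cz z)⁻¹ * q)⁻¹ = X
    constructor <;> intro h
    · calc (q' : Cz z)⁻¹ * q * X * ((q' : Cz z)⁻¹ * q)⁻¹
          = (q' : Cz z)⁻¹ * ((q : Cz z) * X * (q : Cz z)⁻¹) * q' := by group
        _ = X := by rw [h]; group
    · calc (q : Cz z) * X * (q : Cz z)⁻¹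
          = q' * ((q' : Cz z)⁻¹ * q * X * ((q' : Cz z)⁻¹ * q)⁻¹) * (q' : Cz z)⁻¹ := by group
        _ = _ := by rw [h]
  rw [hconj, ← hzero]
  refine ⟨fun h => ?_, K.shift_eq hX hn _ hC hvv hπ⟩
  set r := q'⁻¹ * q
  have hperp := (K.mem_C1_Q r hvv hπ).1 hC
  have hXr : X * (r : Cz z) * X⁻¹ = (r : Cz z) := mul_inv_eq_iff_eq_mul.2 (mul_inv_eq_iff_eq_mul.1 h).symm
  have hac : L.S.ac (QuotientGroup.mk X) (v' ^^^ v) = v' ^^^ v := by
    refine L.S.E_inj (L.S.ac_lt _ _) hvv ?_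
    rw [L.S.E_ac, ← hπ]
    exact L.br.π_conj X r r hXr.symm
  have e := io_ac (K.mk_mem_S2 (K.near_mem hX)) hvv hperp
  rw [hac, hn.2, left_eq_add, smul_eq_zero] at e
  exact e.resolve_right hn0

/-- a base element over a normalised vector -/
noncomputable def Ctx.X0 {n : V4} (hn : Iso n) : Cz z := Classical.choose (K.exists_near hn)

theorem Ctx.X0_near {n : V4} (hn : Iso n) : K.Near (K.X0 hn) := (Classical.choose_spec (K.exists_near hn)).1

theorem Ctx.X0_trans {n : V4} (hn : Iso n) : Trans L (QuotientGroup.mk (K.X0 hn)) n :=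
  (Classical.choose_spec (K.exists_near hn)).2

/-- a vector giving the offset -/
noncomputable def off {n : V4} (hn : Iso n) (c : K4) : V4 := Classical.choose (exists_h4_eq hn.1 c)

theorem off_spec {n : V4} (hn : Iso n) (c : K4) : h4 n (off hn c) = c := Classical.choose_spec (exists_h4_eq hn.1 c)

open Classical in
/-- the near elements over a line -/
noncomputable def Ctx.ptN (n : V4) (c : K4) : Cz z :=
  if hn : Iso n then (pre L (sec (off hn c)) : Cz z) * K.X0 hn * (pre L (sec (off hn c)) : Cz z)⁻¹ else 1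

theorem Ctx.ptN_eq {n : V4} (hn : Iso n) (c : K4) :
    K.ptN n c = (pre L (sec (off hn c)) : Cz z) * K.X0 hn * (pre L (sec (off hn c)) : Cz z)⁻¹ := dif_pos hn

theorem Ctx.ptN_near {n : V4} (hn : Iso n) (c : K4) : K.Near (K.ptN n c) := by
  rw [K.ptN_eq hn]
  exact K.near_conj (K.pre_C1 _) (K.X0_near hn)

theorem Ctx.ptN_trans {n : V4} (hn : Iso n) (c : K4) : Trans L (QuotientGroup.mk (K.ptN n c)) n := by
  rw [K.ptN_eq hn, QuotientGroup.mk_mul, QuotientGroup.mk_mul,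
    (QuotientGroup.eq_one_iff _).2 (pre L _).2, one_mul, QuotientGroup.mk_inv,
    (QuotientGroup.eq_one_iff _).2 (pre L _).2, inv_one, mul_one]
  exact K.X0_trans hn

theorem Ctx.ptN_conj {n : V4} (hn : Iso n) (c : K4) (q : Q) (hq : (q : Cz z) ∈ K.C1) {v : Nat} (hv : v < 4096)
    (ev : L.br.π q = L.S.E v) : (q : Cz z) * K.ptN n c * (q : Cz z)⁻¹ = K.ptN n (c + h4 n (io v)) := by
  set p := pre L (sec (off hn c))
  obtain ⟨s1, -, s3⟩ := sec_spec (off hn c)
  obtain ⟨t1, -, t3⟩ := sec_spec (off hn (c + h4 n (io v)))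
  have h := (K.conj_eq_iff (K.X0_near hn) (K.X0_trans hn) hn.1 (q * p) (pre L (sec (off hn (c + h4 n (io v)))))
    (mul_mem hq (K.pre_C1 _)) (K.pre_C1 _) (Nat.xor_lt_two_pow (n := 12) hv s3) t3
    (by rw [L.br.π_mul, ev, π_pre, L.S.E_xor]) (π_pre L _)).2 (by
      rw [io_xor, s1, t1, h4_add_right, off_spec, off_spec, add_comm])
  rw [K.ptN_eq hn, K.ptN_eq hn, ← h]
  show _ = (q : Cz z) * p * K.X0 hn * ((q : Cz z) * p)⁻¹
  simp only [p]
  group

theorem Ctx.ptN_inj {n : V4} (hn : Iso n) {c d : K4} (h : K.ptN n c = K.ptN n d) : c = d := by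
  rw [K.ptN_eq hn, K.ptN_eq hn, K.conj_eq_iff (K.X0_near hn) (K.X0_trans hn) hn.1 _ _ (K.pre_C1 _) (K.pre_C1 _)
    (sec_spec _).2.2 (sec_spec _).2.2 (π_pre L _) (π_pre L _), (sec_spec _).1, (sec_spec _).1, off_spec,
    off_spec] at h
  exact h

/-- the near point -/
noncomputable def Ctx.pt (p : V4) (c : K4) : K.KE := K.tK (K.ptN (rep p) ((lead p)⁻¹ * c))

theorem Ctx.pt_trans {p : V4} (hp : Iso p) (c : K4) :
    Trans L (QuotientGroup.mk (K.ptN (rep p) ((lead p)⁻¹ * c))) p := by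
  have h := trans_smul (K.ptN_trans (rep_iso hp) ((lead p)⁻¹ * c)) (lead_ne hp.1)
  rwa [← rep_eq hp.1] at h

theorem conj_Q_mem (q : Q) {a : Cz z} (ha : a ∈ Wof L.U L.B) :
    (q : Cz z) * a * (q : Cz z)⁻¹ ∈ Wof L.U L.B := by
  obtain ⟨b, hb, e⟩ := (Subgroup.mem_normalizer_iff.1 (Q_mem_NA L q) (a : G)).1 ⟨a, ha, rfl⟩
  rwa [show (q : Cz z) * a * (q : Cz z)⁻¹ = b from Subtype.ext e.symm]

theorem Ctx.el_plane {m k : Nat} (hm : m ∈ ptsL) (hk : k ∈ fixW.getD ((m >>> 6) &&& 15) []) {d : Cz z}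
    (hd : ∀ v < 4096, L.S.ac (QuotientGroup.mk d) v = FischerLarge45.Lifts.wf (planeW.getD k []) v) :
    d⁻¹ * K.P.el m * d ∈ Wof L.U L.B := by
  have hu : m &&& 63 < 64 := lt_of_le_of_lt Nat.and_le_right (by norm_num)
  let q0 : Q := ⟨sU L (m &&& 63), L.data.hUQ (sU_mem L hu)⟩ *
    ⟨zb ((m >>> 10 : Nat) : ZMod 2), L.data.hUQ (zb_mem L _)⟩
  have hq0 : L.br.π q0 = L.S.E (uvec (m &&& 63)) := by
    rw [L.br.π_mul, π_sU L hu rfl, π_zb L _ rfl, add_zero]
  have hel : K.P.el m = (q0 : Cz z) * K.P.eY ((m >>> 6) &&& 15) := by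
    show sU L _ * K.P.eY _ * zb _ = sU L _ * zb _ * K.P.eY _
    rw [mul_assoc, (zb_comm (K.P.eY _) _).eq, ← mul_assoc]
  rw [hel]
  exact K.plane_into (lt_of_le_of_lt Nat.and_le_right (by norm_num)) hk hd q0 (uvec_spec hu).2.1 hq0
    (List.all_eq_true.1 (List.all_eq_true.1 plane_state m hm) k hk)

/-- orthogonal centres give commuting elements -/
theorem Ctx.orth_commute {X Y : Cz z} (hX : K.Near X) (hY : K.Near Y) {p q : V4} (hp : Iso p) (hq : Iso q)
    (tX : Trans L (QuotientGroup.mk X) p) (tY : Trans L (QuotientGroup.mk Y) q) (h : h4 p q = 0) :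
    Commute X Y := by
  obtain ⟨c, hc, m, hm, hne, rfl⟩ := K.near_form hX
  obtain ⟨hlt, hy, -, -⟩ := pts_facts hm hne
  set y := (m >>> 6) &&& 15
  have hcS := K.mk_mem_S2 hc
  have hY' : K.Near (c⁻¹ * Y * c) := by
    have := K.near_conj (inv_mem hc) hY
    rwa [inv_inv] at this
  have tY' : Trans L (QuotientGroup.mk (c⁻¹ * Y * c)) (gam L (QuotientGroup.mk c)⁻¹ q) := by
    have := trans_conj (inv_mem hcS) tY
    simpa [QuotientGroup.mk_mul] using this
  have tm := K.trans_el hlt hy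
  have tX' : Trans L (QuotientGroup.mk (K.P.el m)) (gam L (QuotientGroup.mk c)⁻¹ p) := by
    have := trans_conj (inv_mem hcS) tX
    simpa [QuotientGroup.mk_mul, mul_assoc] using this
  set q' := gam L (QuotientGroup.mk c)⁻¹ q
  have hq' : Iso q' := gam_iso (inv_mem hcS) hq
  obtain ⟨l, hl, el'⟩ := trans_line (pY_iso hy).1 tm tX'
  have horth : h4 q' (pY y) = 0 := by
    have h0 := gam_h4 (inv_mem hcS) p q
    rw [h, el', h4_smul_left, mul_eq_zero] at h0
    exact h4_flip.1 (h0.resolve_left hl)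
  obtain ⟨i, hi, ei⟩ := p256_surj q'
  have hc' := List.all_eq_true.1 (List.all_eq_true.1 orth_ok y hy) i (List.mem_range.2 hi)
  rw [ei] at hc'
  simp only [ne_eq, hq'.1, not_false_eq_true, decide_true, hq'.2, horth, Bool.and_self, Bool.not_true,
    Bool.false_or, List.any_eq_true, eqV_iff] at hc'
  obtain ⟨k, hk, y', hy', t, ht, et⟩ := hc'
  have hk11 : k < 11 := by
    have hf := List.all_eq_true.1 (List.all_eq_true.1 fixW_ok y
      (List.mem_range.2 (lt_of_le_of_lt Nat.and_le_right (by norm_num)))) k hk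
    simp only [Bool.and_eq_true, decide_eq_true_eq] at hf
    exact hf.1
  obtain ⟨m', hm', hm''⟩ := List.any_eq_true.1 (List.all_eq_true.1 y_states y' hy')
  simp only [Bool.and_eq_true, beq_iff_eq, bne_iff_ne, ne_eq] at hm''
  obtain ⟨hlt', hy'', -, -⟩ := pts_facts hm' hm''.2
  obtain ⟨d, hd, ed⟩ := K.plane_lift hk11
  have tm' := K.trans_el hlt' hy''
  rw [hm''.1] at tm'
  have ht0 : t ≠ 0 := by rintro rfl; revert ht; decide
  have hgam : gam L (QuotientGroup.mk d) (pY y') = pYW k y' := by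
    show io (L.S.ac _ _) = io _
    rw [ed _ (sec_spec _).2.2]
  have tZ : Trans L (QuotientGroup.mk (d * K.P.el m' * d⁻¹)) q' := by
    rw [et, ← hgam, QuotientGroup.mk_mul, QuotientGroup.mk_mul, QuotientGroup.mk_inv]
    exact trans_smul (trans_conj (K.mk_mem_S2 hd) tm') ht0
  obtain ⟨r, -, er⟩ := K.fibre (K.near_conj hd (K.el_near hm' hm''.2)) hY' (trans_unique L K.hF tZ tY')
  have hA : d⁻¹ * (c⁻¹ * Y * c) * d ∈ Wof L.U L.B := by
    have hr : d⁻¹ * (r : Cz z) * d ∈ Q := by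
      simpa using Subgroup.Normal.conj_mem inferInstance _ r.2 d⁻¹
    rw [er, show d⁻¹ * ((r : Cz z) * (d * K.P.el m' * d⁻¹) * (r : Cz z)⁻¹) * d =
      (d⁻¹ * (r : Cz z) * d) * K.P.el m' * (d⁻¹ * (r : Cz z) * d)⁻¹ by group]
    exact conj_Q_mem ⟨_, hr⟩ K.P.el_mem
  have hcomm := ((commW L (K.el_plane hm hk ed) hA).map (MulAut.conj (c * d)))
  simpa [mul_assoc] using hcomm

theorem Ctx.pt_comm (p q : V4) (c d : K4) (hp : Iso p) (hq : Iso q) :
    Commute (K.pt p c) (K.pt q d) ↔ h4 p q = 0 := by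
  set X := K.ptN (rep p) ((lead p)⁻¹ * c)
  set Y := K.ptN (rep q) ((lead q)⁻¹ * d)
  have hX := K.ptN_near (rep_iso hp) ((lead p)⁻¹ * c)
  have hY := K.ptN_near (rep_iso hq) ((lead q)⁻¹ * d)
  constructor
  · intro h
    by_contra hne
    refine trans_not_comm hq (K.pt_trans hp c) (K.pt_trans hq d) hne ?_
    have hXY : Commute X Y := by
      have e : X * Y * X⁻¹ = Y := by
        refine K.tK_inj (K.inD_conj (x := (X : G)) (K.inD_mem hX.1) hY.1) hY.1 ?_
        rw [K.tK_conj (K.near_mem hX) (K.near_mem hY)]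
        exact mul_inv_eq_iff_eq_mul.2 h.eq
      exact mul_inv_eq_iff_eq_mul.1 e
    rw [← QuotientGroup.mk_mul, ← QuotientGroup.mk_mul, hXY.eq]
  · intro h
    have hXY := K.orth_commute hX hY hp hq (K.pt_trans hp c) (K.pt_trans hq d) h
    show K.tK X * K.tK Y = K.tK Y * K.tK X
    rw [← K.tK_mul (K.near_mem hX) (K.near_mem hY), ← K.tK_mul (K.near_mem hY) (K.near_mem hX), hXY.eq]

theorem Ctx.near_braid {X Y : Cz z} (hX : K.Near X) (hY : K.Near Y) {p q : V4} (hp : Iso p) (hq : Iso q)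
    (tX : Trans L (QuotientGroup.mk X) p) (tY : Trans L (QuotientGroup.mk Y) q) (h : h4 p q ≠ 0) :
    X * Y * X * Y * X * Y = 1 := by
  obtain ⟨hb, tr⟩ := trans_braid L K.hF hp hq tX tY h
  set w : (Cz z) ⧸ Q := QuotientGroup.mk X
  set u : (Cz z) ⧸ Q := QuotientGroup.mk Y
  have hXX := K.near_sq hX
  have hYY := K.near_sq hY
  have iX : X⁻¹ = X := inv_eq_of_mul_eq_one_right hXX
  have iY : Y⁻¹ = Y := inv_eq_of_mul_eq_one_right hYY
  have hXC := K.near_mem hX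
  have hYC := K.near_mem hY
  have hu : u * u = 1 := trans_sq L K.hF hq.2 tY
  have hw : w * w = 1 := trans_sq L K.hF hp.2 tX
  have nX' : K.Near (Y * X * Y * X * Y) := by
    have := K.near_conj (mul_mem hYC hXC) hY
    rwa [mul_inv_rev, iX, iY, ← mul_assoc] at this
  obtain ⟨q1, hq1, e1⟩ := K.fibre hX nX' (by
    show w = QuotientGroup.mk (Y * X * Y * X * Y)
    simp only [QuotientGroup.mk_mul]
    show w = u * w * u * w * u
    rw [← hb, mul_assoc (w * u) w w, hw, mul_one, mul_assoc, hu, mul_one])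
  have nZ : K.Near (X * Y * X) := by
    have := K.near_conj hXC hY
    rwa [iX] at this
  have nZ' : K.Near (Y * X * Y) := by
    have := K.near_conj hYC hX
    rwa [iY] at this
  obtain ⟨q2, hq2, e2⟩ := K.fibre nZ nZ' (by simpa only [QuotientGroup.mk_mul] using hb)
  have tZ : Trans L (QuotientGroup.mk (X * Y * X)) (p + h4 p q • q) := by
    simpa only [QuotientGroup.mk_mul] using tr
  -- the two forms of the cube
  obtain ⟨v1, hv1, ev1⟩ := L.S.E_surj (L.br.π q1)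
  obtain ⟨v2, hv2, ev2⟩ := L.S.E_surj (L.br.π q2)
  have code : ∀ (Z : Cz z) (r : Q) (v : Nat), Z * Z = 1 → v < 4096 → L.br.π r = L.S.E v →
      ∀ R : Q, (R : Cz z) = Z * ((r : Cz z) * Z * (r : Cz z)⁻¹) →
        L.br.π R = L.S.E (L.S.ac (QuotientGroup.mk Z) v ^^^ v) := by
    intro Z r v hZ hv er R eR
    let r' : Q := ⟨Z * r * Z⁻¹, Subgroup.Normal.conj_mem inferInstance _ r.2 Z⟩
    have : R = r' * r⁻¹ := Subtype.ext (by
      rw [eR]
      show _ = Z * (r : Cz z) * Z⁻¹ * (r : Cz z)⁻¹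
      rw [inv_eq_of_mul_eq_one_right hZ]
      simp only [mul_assoc])
    rw [this, L.br.π_mul, L.br.π_inv, π_conj_code L Z r (f := L.S.ac (QuotientGroup.mk Z)) hv er rfl (q' := r') rfl,
      er, L.S.E_xor]
  have hR1 : X * ((q1 : Cz z) * X * (q1 : Cz z)⁻¹) = X * Y * X * Y * X * Y := by
    rw [← e1]
    simp only [mul_assoc]
  have hR2 : X * Y * X * ((q2 : Cz z) * (X * Y * X) * (q2 : Cz z)⁻¹) = X * Y * X * Y * X * Y := by
    rw [← e2]
    simp only [mul_assoc]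
  have hRQ : X * Y * X * Y * X * Y ∈ Q := by
    rw [← hR1, ← QuotientGroup.eq_one_iff]
    simp only [QuotientGroup.mk_mul, QuotientGroup.mk_inv, (QuotientGroup.eq_one_iff _).2 q1.2, inv_one,
      one_mul, mul_one]
    exact hw
  set R : Q := ⟨_, hRQ⟩
  have hZ2 : X * Y * X * (X * Y * X) = 1 := K.near_sq nZ
  have c1 := code X q1 v1 hXX hv1 ev1.symm R hR1.symm
  have c2 := code (X * Y * X) q2 v2 hZ2 hv2 ev2.symm R hR2.symm
  have hi : ∀ (Z : Cz z) (n : V4) (v : Nat), Z ∈ K.C1 → Trans L (QuotientGroup.mk Z) n → v < 4096 →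
      onPerp v = true → io (L.S.ac (QuotientGroup.mk Z) v ^^^ v) = h4 (io v) n • n := by
    intro Z n v hZ ht hv hpv
    rw [io_xor, io_ac (K.mk_mem_S2 hZ) hv hpv, ht.2, add_comm, ← add_assoc]
    convert zero_add (h4 (io v) n • n) using 2
    funext i
    exact add_self _
  have heq := L.S.E_inj (Nat.xor_lt_two_pow (n := 12) (L.S.ac_lt _ _) hv1)
    (Nat.xor_lt_two_pow (n := 12) (L.S.ac_lt _ _) hv2) (c1.symm.trans c2)
  have e3 := congrArg io heq
  rw [hi X p v1 hXC tX hv1 ((K.mem_C1_Q q1 hv1 ev1.symm).1 hq1),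
    hi _ _ v2 (K.near_mem nZ) tZ hv2 ((K.mem_C1_Q q2 hv2 ev2.symm).1 hq2)] at e3
  have hk : h4 (io v2) (p + h4 p q • q) = 0 := by
    by_contra hk
    have hpq : h4 p p = 0 := hp.2
    have e4 := congrArg (fun t => h4 t p) e3
    rw [h4_smul_left, h4_smul_left, h4_add_left, hpq, mul_zero, zero_add, h4_smul_left] at e4
    have hqp : h4 q p ≠ 0 := by
      rw [h4_symm p q]
      exact mul_ne_zero h h
    exact mul_ne_zero hk (mul_ne_zero h hqp) e4.symm
  rw [← hR2, K.shift_eq nZ tZ q2 hq2 hv2 ev2.symm hk, hZ2]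

theorem Ctx.pt_braid (p q : V4) (c d : K4) (hp : Iso p) (hq : Iso q) (h : h4 p q ≠ 0) :
    (K.pt p c * K.pt q d) ^ 3 = 1 := by
  have hX := K.ptN_near (rep_iso hp) ((lead p)⁻¹ * c)
  have hY := K.ptN_near (rep_iso hq) ((lead q)⁻¹ * d)
  have e := congrArg K.tK (K.near_braid hX hY hp hq (K.pt_trans hp c) (K.pt_trans hq d) h)
  set X := K.ptN (rep p) ((lead p)⁻¹ * c)
  set Y := K.ptN (rep q) ((lead q)⁻¹ * d)
  have h1 := K.near_mem hX
  have h2 := K.near_mem hY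
  have h3 := mul_mem (mul_mem h1 h2) h1
  have h4 := mul_mem h3 h2
  rw [K.tK_one, K.tK_mul (mul_mem h4 h1) h2, K.tK_mul h4 h1, K.tK_mul h3 h2,
    K.tK_mul (mul_mem h1 h2) h1, K.tK_mul h1 h2] at e
  show (K.tK X * K.tK Y) ^ 3 = 1
  simpa [pow_succ, mul_assoc] using e

/-- the chart -/
noncomputable def Ctx.chart : Chart K.DE K.zE where
  pt := K.pt
  scale p c l hp hl := by
    unfold Ctx.pt
    rw [rep_smul hp.1 hl, lead_smul hl, mul_inv_rev, mul_assoc, inv_mul_cancel_left₀ hl]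
  mem p c hp := K.tK_perp (K.ptN_near (rep_iso hp) _)
  surj x hx := by
    obtain ⟨Y, hY, rfl⟩ := K.perp_near hx
    obtain ⟨p, hp, tY⟩ := K.near_trans hY
    have hn := rep_iso hp
    have tn : Trans L (QuotientGroup.mk (K.ptN (rep p) 0)) p := by
      have := K.pt_trans hp 0
      rwa [mul_zero] at this
    obtain ⟨q, hq, e⟩ := K.fibre (K.ptN_near hn 0) hY (trans_unique L K.hF tn tY)
    obtain ⟨v, hv, ev⟩ := L.S.E_surj (L.br.π q)
    refine ⟨p, lead p * (0 + h4 (rep p) (io v)), hp, ?_⟩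
    rw [Ctx.pt, inv_mul_cancel_left₀ (lead_ne hp.1), ← K.ptN_conj hn 0 q hq hv ev.symm, ← e]
  inj p q c d hp hq h := by
    have hX := K.ptN_near (rep_iso hp) ((lead p)⁻¹ * c)
    have hY := K.ptN_near (rep_iso hq) ((lead q)⁻¹ * d)
    have e := K.tK_inj hX.1 hY.1 h
    obtain ⟨l, hl, rfl⟩ := trans_line hp.1 (K.pt_trans hp c) (by rw [e]; exact K.pt_trans hq d)
    rw [rep_smul hp.1 hl, lead_smul hl] at e
    refine ⟨l, hl, rfl, ?_⟩
    have h1 := K.ptN_inj (rep_iso hp) e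
    have hlp := lead_ne hp.1
    have : c = lead p * ((l * lead p)⁻¹ * d) := by rw [← h1, mul_inv_cancel_left₀ hlp]
    rw [this, mul_inv_rev, ← mul_assoc (lead p), ← mul_assoc (lead p), mul_inv_cancel₀ hlp, one_mul,
      mul_inv_cancel_left₀ hl]
  comm := K.pt_comm
  braid := K.pt_braid
  shift w := by
    refine ⟨K.tK (pre L (sec w) : Cz z), ?_, fun p c hp => ?_⟩
    · rw [← K.tK_zc, Commute, SemiconjBy, ← K.tK_mul (K.pre_C1 w) K.zc_mem_C1,
        ← K.tK_mul K.zc_mem_C1 (K.pre_C1 w), (zc_comm _).eq]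
    · have hn := rep_iso hp
      rw [Ctx.pt, Ctx.pt, ← K.tK_conj (K.pre_C1 w) (K.near_mem (K.ptN_near hn _)),
        K.ptN_conj hn _ _ (K.pre_C1 w) (sec_spec w).2.2 (π_pre L _), (sec_spec w).1, mul_add]
      congr 3
      rw [rep, h4_smul_left]

theorem Ctx.kernel (g : K.KE) (hg : Commute g K.zE) (hall : ∀ x ∈ perp K.DE K.zE, Commute g x) :
    g = 1 ∨ g = K.zE := by
  obtain ⟨⟨x, hx⟩, rfl⟩ := QuotientGroup.mk_surjective g
  have hxz := K.lift_comm (a := ⟨x, hx⟩) (b := ⟨z, K.z_mem_CE⟩) K.inD_z hg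
  set X : Cz z := ⟨x, Subgroup.mem_centralizer_singleton_iff.2 (congrArg Subtype.val hxz.eq)⟩
  have hXC : X ∈ K.C1 := hx
  have hfix : ∀ Y, K.Near Y → X * Y * X⁻¹ = Y := by
    intro Y hY
    refine K.tK_inj (K.inD_conj (x := x) hx hY.1) hY.1 ?_
    rw [K.tK_conj hXC (K.near_mem hY), K.tK_eq hXC]
    exact mul_inv_eq_iff_eq_mul.2 (hall _ (K.tK_perp hY)).eq
  have hS := K.mk_mem_S2 hXC
  have hsep : ∀ x : V4, (∀ n, Iso n → h4 n x = 0) → x = 0 := by
    intro x hx0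
    obtain ⟨k, hk, rfl⟩ := p256_surj x
    have h := List.all_eq_true.1 sep_ok.2 k (List.mem_range.2 hk)
    simp only [Bool.or_eq_true, eqV_iff, List.any_eq_true, decide_eq_true_eq] at h
    refine h.resolve_right ?_
    rintro ⟨n, hn, hne⟩
    have h' := List.all_eq_true.1 sep_ok.1 n hn
    simp only [Bool.and_eq_true, decide_eq_true_eq] at h'
    exact hne (hx0 n h')
  have hgam : ∀ x, gam L (QuotientGroup.mk X) x = x := by
    intro x
    have hz : gam L (QuotientGroup.mk X) x + x = 0 := by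
      refine hsep _ fun n hn => ?_
      obtain ⟨s1, s2, s3⟩ := sec_spec x
      set q := pre L (sec x)
      let q' : Q := ⟨X * q * X⁻¹, Subgroup.Normal.conj_mem inferInstance _ q.2 X⟩
      have hq' : L.br.π q' = L.S.E (L.S.ac (QuotientGroup.mk X) (sec x)) :=
        π_conj_code L X q s3 (π_pre L _) (f := L.S.ac (QuotientGroup.mk X)) rfl rfl
      have hY := K.near_conj (K.pre_C1 x) (K.X0_near hn)
      have e : (q : Cz z) * K.X0 hn * (q : Cz z)⁻¹ = (q' : Cz z) * K.X0 hn * (q' : Cz z)⁻¹ := by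
        conv_lhs => rw [← hfix _ hY]
        show _ = X * q * X⁻¹ * K.X0 hn * (X * q * X⁻¹)⁻¹
        conv_rhs => rw [← hfix _ (K.X0_near hn)]
        simp only [q]
        group
      rw [K.conj_eq_iff (K.X0_near hn) (K.X0_trans hn) hn.1 q q' (K.pre_C1 x)
        (mul_mem (mul_mem hXC (K.pre_C1 x)) (inv_mem hXC)) s3 (L.S.ac_lt _ _) (π_pre L _) hq',
        io_ac hS s3 s2, s1] at e
      rw [h4_add_right, ← e, add_self]
    funext i
    exact (by decide : ∀ a b : K4, a + b = 0 → a = b) _ _ (congrFun hz i)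
  have hmk : (QuotientGroup.mk X : (Cz z) ⧸ Q) = 1 :=
    faithful L K.hF hS (one_mem _) fun x => by rw [hgam, gam_one]
  have hXQ := (QuotientGroup.eq_one_iff X).1 hmk
  obtain ⟨v, hv, ev⟩ := L.S.E_surj (L.br.π ⟨X, hXQ⟩)
  have hperp := (K.mem_C1_Q ⟨X, hXQ⟩ hv ev.symm).1 hXC
  have hio : io v = 0 := by
    refine hsep _ fun n hn => ?_
    have e := hfix _ (K.X0_near hn)
    have h1 := K.conj_eq_iff (K.X0_near hn) (K.X0_trans hn) hn.1 ⟨X, hXQ⟩ 1 hXC (one_mem _) hv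
      (show 0 < 4096 by norm_num) ev.symm (by rw [L.br.π_one, E_zero L])
    rw [show io 0 = 0 from (lineL_facts 0 (by simp [lineL])).2.1] at h1
    have := h1.1 (by
      show X * K.X0 hn * X⁻¹ = 1 * K.X0 hn * 1⁻¹
      rw [e, one_mul, inv_one, mul_one])
    rwa [show h4 n (0 : V4) = 0 by simp [h4]] at this
  have hline := io_line hv hperp hio
  rw [← e_line, List.mem_map] at hline
  obtain ⟨e, he, ee⟩ := hline
  have he64 : e < 64 := by
    have : ∀ e ∈ eL, e < 64 := by decide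
    exact this e he
  have hel : K.P.el e = sU L e := by
    obtain ⟨d1, d2, d3⟩ := eL_digits e he
    simp [Base.el, d1, d2, d3, Base.eY, zb_zero]
  have he2 := (eL_facts e he).1
  rcases zc_cases L.br ((π_sU L (q := ⟨sU L e, L.data.hUQ (sU_mem L he64)⟩) he64 rfl).trans
    ((congrArg L.S.E ee).trans ev)) with h | h
  · left
    rw [← QuotientGroup.mk_one, K.mk_eq]
    refine ⟨e, he, ?_⟩
    change X = sU L e at h
    rw [← hel] at h
    show ((K.P.el e : Cz z) : G) = x⁻¹ * 1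
    rw [mul_one, show x = K.g e from congrArg Subtype.val h, K.g_inv he2]
  · right
    rw [Ctx.zE, K.mk_eq]
    refine ⟨e, he, ?_⟩
    change X = sU L e * zc z at h
    rw [← hel, ← K.P.el_z, ← K.P.el_xor he2 (by norm_num)] at h
    show K.g e = x⁻¹ * z
    have hx' : x⁻¹ * K.g 1024 = K.g e := by
      rw [show x = K.g (e ^^^ 1024) from congrArg Subtype.val h,
        K.g_inv (Nat.xor_lt_two_pow (n := 11) he2 (by norm_num)),
        ← K.g_xor (Nat.xor_lt_two_pow (n := 11) he2 (by norm_num)) (by norm_num), Nat.xor_assoc, Nat.xor_self,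
        Nat.xor_zero]
    rw [← hx']
    exact congrArg (x⁻¹ * ·) K.g_z

/-- The setting of the recognition of PSU(6,2). -/
noncomputable def Ctx.host : Host K.DE K.zE where
  mem := K.zE_mem
  order := by
    rintro _ ⟨a, ha, rfl⟩
    haveI : Fact (Nat.Prime 2) := ⟨Nat.prime_two⟩
    refine orderOf_eq_prime ?_ fun h => ?_
    · rw [pow_two, ← QuotientGroup.mk_mul, show a * a = 1 from Subtype.ext (K.inD_sq ha), QuotientGroup.mk_one]
    · have hmem : ((a : G))⁻¹ * 1 ∈ K.EG := K.mk_eq.1 (h.trans (QuotientGroup.mk_one K.EC).symm)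
      rw [mul_one, Subgroup.inv_mem_iff] at hmem
      obtain ⟨e, he, ee⟩ := hmem
      obtain ⟨hlt, -⟩ := eL_facts e he
      have hp := K.inD_pts hlt (ee ▸ ha)
      have : ∀ e ∈ eL, e ∉ ptsL := by decide
      exact this e he hp
  conjD := by
    intro g x hx
    obtain ⟨a, ha, rfl⟩ := hx
    obtain ⟨b, rfl⟩ := QuotientGroup.mk_surjective g
    exact ⟨b * a * b⁻¹, K.inD_conj b.2 ha, by rw [QuotientGroup.mk_mul, QuotientGroup.mk_mul, QuotientGroup.mk_inv]⟩
  trans := by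
    rintro _ ⟨a, ⟨x, hx, e⟩, rfl⟩
    refine ⟨QuotientGroup.mk ⟨x, hx⟩, ?_⟩
    rw [Ctx.zE, ← QuotientGroup.mk_inv, ← QuotientGroup.mk_mul, ← QuotientGroup.mk_mul]
    exact congrArg QuotientGroup.mk (Subtype.ext e)
  chart := K.chart
  kernel := K.kernel

end Cfsg.Agent.Lib.FischerLarge58
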