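import Cfsg.Agent.Lib.FischerLarge58.StabCard
import Cfsg.Agent.Lib.FischerLarge58.ChecksB

/-!
# The action of the stabiliser on the hermitian space: faithful, and the transvections

Owner: helper58.
-/

set_option autoImplicit false
set_option linter.style.haveILetI false
set_option linter.unusedSectionVars false
set_option maxRecDepth 100000

namespace Cfsg.Agent.Lib.FischerLarge58

open Cfsg.Agent.Lib.LargeFischer13
open Cfsg.Agent.Lib.FischerLarge43
open Cfsg.Agent.Lib.FischerLarge45 (Local)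
open Cfsg.Agent.Lib.FischerLarge45.Model (omega ap key eq_of_basis ap_xor span b0L)
open Cfsg.Agent.Lib.FischerLarge45.Codes (qn omega_lt)
open Cfsg.Agent.Lib.FischerLarge45.Lifts (B16 wf wf_img key_img wf_lt wf_xor)
open Cfsg.Agent.Lib.G24 (K4)
open Cfsg.Agent.Lib.U62Recog47 (V4 h4 Iso)

attribute [local instance] Bridge.acg Bridge.fin Bridge.act

theorem sq_add : ∀ a b : K4, (a + b) * (a + b) = a * a + b * b := by decide

theorem add_self : ∀ a : K4, a + a = 0 := by decide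

theorem cube_one : ∀ a : K4, a ≠ 0 → a * (a * a) = 1 := by decide

theorem four_eq : ∀ a : K4, a * a * (a * a) = a := by decide

theorem scalars : ∀ l : K4, l = 0 ∨ l = 1 ∨ l = K4.w ∨ l = K4.w * K4.w := by decide

theorem h4_add_left (x y w : V4) : h4 (x + y) w = h4 x w + h4 y w := by
  simp only [h4, Pi.add_apply]
  ring

theorem h4_add_right (x y w : V4) : h4 x (y + w) = h4 x y + h4 x w := by
  simp only [h4, Pi.add_apply, sq_add]
  ring

theorem h4_smul_left (l : K4) (x y : V4) : h4 (l • x) y = l * h4 x y := by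
  simp only [h4, Pi.smul_apply, smul_eq_mul]
  ring

theorem h4_smul_right (l : K4) (x y : V4) : h4 x (l • y) = l * l * h4 x y := by
  simp only [h4, Pi.smul_apply, smul_eq_mul]
  ring

theorem h4_zero_left (y : V4) : h4 0 y = 0 := by simp [h4]

theorem h4_symm (x y : V4) : h4 y x = h4 x y * h4 x y := by
  have h : ∀ a b : K4, a * (b * b) * (a * (b * b)) = b * (a * a) := by decide
  simp only [h4, sq_add, h]

theorem exists_h4_ne {p : V4} (hp : p ≠ 0) : ∃ x : V4, h4 x p ≠ 0 := by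
  obtain ⟨i, hi⟩ : ∃ i, p i ≠ 0 := by
    by_contra h
    push Not at h
    exact hp (funext h)
  refine ⟨Pi.single i 1, ?_⟩
  have : h4 (Pi.single i 1) p = p i * p i := by
    fin_cases i <;> simp [h4]
  rw [this]
  exact mul_ne_zero hi hi

theorem io_xor (a b : Nat) : io (a ^^^ b) = io a + io b := by
  have h : ∀ i, dK (nib (a ^^^ b) i) = dK (nib a i) + dK (nib b i) := by
    intro i
    simp only [nib, Nat.shiftRight_xor_distrib, Nat.and_xor_distrib_right]
    exact dK_xor _ (lt_of_le_of_lt Nat.and_le_right (by norm_num)) _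
      (lt_of_le_of_lt Nat.and_le_right (by norm_num))
  funext i
  fin_cases i <;> simp [io, h]

theorem io_omega {v : Nat} (hv : v < 4096) : io (omega v) = K4.w • io v :=
  eqV_iff.1 (List.all_eq_true.1 io_omega_ok v (List.mem_range.2 hv))

theorem io_line {v : Nat} (hv : v < 4096) (hp : onPerp v = true) (h : io v = 0) : v ∈ lineL := by
  have h' := List.all_eq_true.1 io_line_ok v (List.mem_range.2 hv)
  rw [hp, h, eqV_iff.2 rfl] at h'
  simpa using h'

theorem lineL_facts : ∀ l ∈ lineL, l < 4096 ∧ io l = 0 ∧ onPerp l = true := by decide +kernel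

theorem sec_spec (p : V4) : io (sec p) = p ∧ onPerp (sec p) = true ∧ sec p < 4096 := by
  obtain ⟨k, hk, rfl⟩ := p256_surj p
  have h := List.all_eq_true.1 sec_ok k (List.mem_range.2 hk)
  simp only [Bool.and_eq_true, decide_eq_true_eq, eqV_iff] at h
  exact ⟨h.1.1, h.1.2, h.2⟩

theorem onPerp_iff {v : Nat} (hv : v < 4096) : onPerp v = true ↔ bb v 80 = 0 ∧ bb v 160 = 0 := by
  have h := List.all_eq_true.1 perp_iff_ok v (List.mem_range.2 hv)
  rw [beq_iff_eq] at h
  rw [← h, Bool.and_eq_true, beq_iff_eq, beq_iff_eq]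

theorem onPerp_xor {a b : Nat} (ha : onPerp a = true) (hb : onPerp b = true) : onPerp (a ^^^ b) = true := by
  simp only [onPerp, beq_iff_eq, nib, Nat.shiftRight_xor_distrib, Nat.and_xor_distrib_right] at *
  rw [ha, hb]

theorem h_trace {a b : Nat} (ha : a < 4096) (hb : b < 4096) (pa : onPerp a = true) (pb : onPerp b = true) :
    h4 (io a) (io b) + h4 (io b) (io a) = if bb a b = 1 then 1 else 0 := by
  have hq : ∀ v < 4096, onPerp v = true → h4 (io v) (io v) = if qq v = 1 then 1 else 0 := fun v hv pv => by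
    have h := List.all_eq_true.1 io_qq_ok v (List.mem_range.2 hv)
    simpa [pv] using h
  have h3 := hq _ (Nat.xor_lt_two_pow (n := 12) ha hb) (onPerp_xor pa pb)
  rw [io_xor, h4_add_left, h4_add_right, h4_add_right, hq a ha pa, hq b hb pb] at h3
  have key : ∀ x y t : K4, ∀ i < 2, ∀ j < 2, ∀ k < 2,
      (if i = 1 then (1 : K4) else 0) + x + (y + if j = 1 then 1 else 0) = (if k = 1 then 1 else 0) →
      x + y = if (k + i + j) % 2 = 1 then 1 else 0 := by decide
  exact key _ _ 0 _ (qq_lt a) _ (qq_lt b) _ (qq_lt _) h3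

universe u

variable {G : Type u} [Group G] [Finite G] {z : G} {Q : Subgroup (Cz z)} [Q.Normal]
variable (L : Local z Q)

theorem bb_ac (w : (Cz z) ⧸ Q) {a b : Nat} (ha : a < 4096) (hb : b < 4096) :
    bb (L.S.ac w a) (L.S.ac w b) = bb a b := by
  have hqq : ∀ l < 4096, qq (L.S.ac w l) = qq l := fun l hl => by
    have hh : qn (L.S.ac w l) = qn l :=
      (L.S.qn_eq (L.S.ac_lt _ _) hl).2 (by rw [L.S.E_ac, L.br.D.q_smul])
    rw [qq_eq (L.S.ac_lt _ _), qq_eq hl, hh]
  unfold bb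
  rw [← L.S.ac_xor, hqq _ (Nat.xor_lt_two_pow (n := 12) ha hb), hqq a ha, hqq b hb]

variable {L} {w w' c : (Cz z) ⧸ Q}

theorem onPerp_ac (hw : w ∈ S2 L) {v : Nat} (hv : v < 4096) (hp : onPerp v = true) :
    onPerp (L.S.ac w v) = true := by
  obtain ⟨h1, h2⟩ := (mem_S2 L).1 hw
  rw [onPerp_iff (L.S.ac_lt _ _)]
  rw [onPerp_iff hv] at hp
  have e1 := bb_ac L w hv (show 80 < 4096 by norm_num)
  have e2 := bb_ac L w hv (show 160 < 4096 by norm_num)
  rw [h1] at e1
  rw [h2] at e2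
  exact ⟨e1.trans hp.1, e2.trans hp.2⟩

theorem line_fix (hw : w ∈ S2 L) {l : Nat} (hl : l ∈ lineL) : L.S.ac w l = l := by
  obtain ⟨h1, h2⟩ := (mem_S2 L).1 hw
  have h0 : L.S.ac w 0 = 0 := by
    have := L.S.ac_xor w 80 80
    rwa [Nat.xor_self, Nat.xor_self] at this
  simp only [lineL, List.mem_cons, List.not_mem_nil, or_false] at hl
  rcases hl with rfl | rfl | rfl | rfl
  · exact h0
  · exact h1
  · exact h2
  · rw [show (240 : Nat) = 80 ^^^ 160 by decide, L.S.ac_xor, h1, h2]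

variable (L) in
/-- the induced map of the hermitian space -/
noncomputable def gam (w : (Cz z) ⧸ Q) (p : V4) : V4 := io (L.S.ac w (sec p))

theorem io_ac (hw : w ∈ S2 L) {v : Nat} (hv : v < 4096) (hp : onPerp v = true) :
    io (L.S.ac w v) = gam L w (io v) := by
  obtain ⟨hs, hsp, hslt⟩ := sec_spec (io v)
  set s := sec (io v)
  have hd : v ^^^ s ∈ lineL := io_line (Nat.xor_lt_two_pow (n := 12) hv hslt) (onPerp_xor hp hsp) (by
    rw [io_xor, hs]
    funext i
    exact add_self _)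
  have hx : v = (v ^^^ s) ^^^ s := by rw [Nat.xor_assoc, Nat.xor_self, Nat.xor_zero]
  show _ = io (L.S.ac w s)
  conv_lhs => rw [hx, L.S.ac_xor, line_fix hw hd, io_xor, (lineL_facts _ hd).2.1, zero_add]

theorem gam_add (hw : w ∈ S2 L) (p q : V4) : gam L w (p + q) = gam L w p + gam L w q := by
  obtain ⟨h1, p1, l1⟩ := sec_spec p
  obtain ⟨h2, p2, l2⟩ := sec_spec q
  have h := io_ac hw (Nat.xor_lt_two_pow (n := 12) l1 l2) (onPerp_xor p1 p2)
  rw [io_xor, h1, h2, L.S.ac_xor, io_xor] at h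
  exact h.symm

theorem onPerp_omega : ∀ v < 4096, onPerp v = true → onPerp (omega v) = true := by
  have h : (List.range 4096).all (fun v => !onPerp v || onPerp (omega v)) = true := by decide +kernel
  intro v hv hp
  simpa [hp] using List.all_eq_true.1 h v (List.mem_range.2 hv)

theorem gam_smul (hw : w ∈ S2 L) (l : K4) (p : V4) : gam L w (l • p) = l • gam L w p := by
  have hom : ∀ p : V4, gam L w (K4.w • p) = K4.w • gam L w p := fun p => by
    obtain ⟨h1, p1, l1⟩ := sec_spec p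
    have h := io_ac hw (omega_lt l1) (onPerp_omega _ l1 p1)
    rw [io_omega l1, h1, S2_omega L hw l1, io_omega (L.S.ac_lt _ _)] at h
    exact h.symm
  rcases scalars l with rfl | rfl | rfl | rfl
  · rw [zero_smul, zero_smul]
    have := gam_add hw 0 0
    rw [add_zero] at this
    exact add_eq_left.1 this.symm
  · rw [one_smul, one_smul]
  · exact hom p
  · rw [mul_smul, mul_smul, hom, hom]

theorem gam_h4 (hw : w ∈ S2 L) (p q : V4) : h4 (gam L w p) (gam L w q) = h4 p q := by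
  have key : ∀ p q : V4, h4 (gam L w p) (gam L w q) + h4 (gam L w q) (gam L w p) = h4 p q + h4 q p := by
    intro p q
    obtain ⟨h1, p1, l1⟩ := sec_spec p
    obtain ⟨h2, p2, l2⟩ := sec_spec q
    have e1 := h_trace l1 l2 p1 p2
    rw [h1, h2] at e1
    have e2 := h_trace (L.S.ac_lt w _) (L.S.ac_lt w _) (onPerp_ac hw l1 p1) (onPerp_ac hw l2 p2)
    rw [io_ac hw l1 p1, io_ac hw l2 p2, h1, h2, bb_ac L w l1 l2] at e2
    rw [e1, e2]
  have k1 := key p q
  have k2 := key (K4.w • p) q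
  rw [gam_smul hw, h4_smul_left, h4_smul_right, h4_smul_left, h4_smul_right,
    h4_symm (gam L w p) (gam L w q), h4_symm p q] at k2
  rw [h4_symm (gam L w p) (gam L w q), h4_symm p q] at k1
  have hK : ∀ a b : K4, a + a * a = b + b * b →
      K4.w * a + K4.w * K4.w * (a * a) = K4.w * b + K4.w * K4.w * (b * b) → a = b := by decide
  exact hK _ _ k1 k2

theorem gam_mul (hw' : w' ∈ S2 L) (p : V4) (hw : w ∈ S2 L) : gam L (w * w') p = gam L w (gam L w' p) := by
  obtain ⟨h1, p1, l1⟩ := sec_spec p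
  show io (L.S.ac (w * w') (sec p)) = _
  rw [L.S.ac_mul, io_ac hw (L.S.ac_lt _ _) (onPerp_ac hw' l1 p1)]
  rfl

theorem gam_one (p : V4) : gam L 1 p = p := by
  show io (L.S.ac 1 (sec p)) = p
  rw [L.S.ac_one (sec_spec p).2.2, (sec_spec p).1]

theorem gam_ne (hw : w ∈ S2 L) {p : V4} (hp : p ≠ 0) : gam L w p ≠ 0 := by
  obtain ⟨x, hx⟩ := exists_h4_ne hp
  intro h
  rw [← gam_h4 hw, h] at hx
  simp [h4] at hx

theorem gam_iso (hw : w ∈ S2 L) {p : V4} (hp : Iso p) : Iso (gam L w p) :=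
  ⟨gam_ne hw hp.1, by rw [gam_h4 hw]; exact hp.2⟩

variable (L) in
/-- acting as the transvection with centre `p` -/
def Trans (w : (Cz z) ⧸ Q) (p : V4) : Prop :=
  w ∈ S2 L ∧ ∀ x : V4, gam L w x = x + h4 x p • p

theorem trans_smul {p : V4} (h : Trans L w p) {l : K4} (hl : l ≠ 0) : Trans L w (l • p) := by
  refine ⟨h.1, fun x => ?_⟩
  rw [h.2, h4_smul_right, smul_smul]
  congr 2
  have hK : ∀ a l : K4, l ≠ 0 → a = l * l * a * l := by decide
  exact hK _ _ hl

theorem trans_conj {p : V4} (hc : c ∈ S2 L) (h : Trans L w p) : Trans L (c * w * c⁻¹) (gam L c p) := by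
  refine ⟨mul_mem (mul_mem hc h.1) (inv_mem hc), fun x => ?_⟩
  rw [gam_mul (inv_mem hc) x (mul_mem hc h.1), gam_mul h.1 _ hc, h.2, gam_add hc, gam_smul hc,
    ← gam_mul (inv_mem hc) x hc, mul_inv_cancel, gam_one]
  congr 2
  rw [← gam_h4 hc (gam L c⁻¹ x) p, ← gam_mul (inv_mem hc) x hc, mul_inv_cancel, gam_one]

variable (L) in
/-- the action on the space is faithful -/
theorem faithful (hF : Cfsg.IsOfLargeFischerTypeAt z Q) (hw : w ∈ S2 L) (hw' : w' ∈ S2 L)
    (h : ∀ x, gam L w x = gam L w' x) : w = w' := by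
  set g := w'⁻¹ * w
  have hg : g ∈ S2 L := mul_mem (inv_mem hw') hw
  have hid : ∀ x, gam L g x = x := fun x => by
    rw [gam_mul hw x (inv_mem hw'), h, ← gam_mul hw' x (inv_mem hw'), inv_mul_cancel, gam_one]
  have hfix : ∀ v < 4096, onPerp v = true → L.S.ac g v ^^^ v ∈ lineL := fun v hv hp =>
    io_line (Nat.xor_lt_two_pow (n := 12) (L.S.ac_lt _ _) hv) (onPerp_xor (onPerp_ac hg hv hp) hp)
      (by rw [io_xor, io_ac hg hv hp, hid]; funext i; exact add_self _)
  have hd1 : ∀ k < 4096, onPerp (L.S.ac g k ^^^ k) = true := fun k hk => by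
    obtain ⟨h1, h2⟩ := (mem_S2 L).1 hg
    have hk' := L.S.ac_lt g k
    have hb : ∀ u < 4096, L.S.ac g u = u → bb (L.S.ac g k ^^^ k) u = 0 := fun u hu hgu => by
      have e := bb_ac L g hk hu
      rw [hgu] at e
      have e2 := bb_add L hk' hk hu
      rw [e, CharTwo.add_self_eq_zero] at e2
      have key : ∀ n < 2, ((n : Nat) : ZMod 2) = 0 → n = 0 := by
        intro n hn; interval_cases n <;> decide
      exact key _ (Nat.mod_lt _ (by norm_num)) e2
    exact (onPerp_iff (Nat.xor_lt_two_pow (n := 12) hk' hk)).2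
      ⟨hb 80 (by norm_num) h1, hb 160 (by norm_num) h2⟩
  have h4' : g ^ 2 ^ 2 = 1 := by
    refine L.S.eq_of_ac fun k hk => ?_
    rw [L.S.ac_one hk]
    set d1 := L.S.ac g k ^^^ k with hd1'
    have hk' := L.S.ac_lt g k
    have hd1lt : d1 < 4096 := Nat.xor_lt_two_pow (n := 12) hk' hk
    set d2 := L.S.ac g d1 ^^^ d1 with hd2'
    have hd2 : d2 ∈ lineL := hfix d1 hd1lt (hd1 k hk)
    have e1 : L.S.ac g k = k ^^^ d1 := by
      rw [hd1', Nat.xor_comm (L.S.ac g k), ← Nat.xor_assoc, Nat.xor_self, Nat.zero_xor]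
    have e2 : L.S.ac g d1 = d1 ^^^ d2 := by
      rw [hd2', Nat.xor_comm (L.S.ac g d1), ← Nat.xor_assoc, Nat.xor_self, Nat.zero_xor]
    have e3 : L.S.ac g (L.S.ac g k) = k ^^^ d2 := by
      rw [e1, L.S.ac_xor, e1, e2, Nat.xor_assoc, ← Nat.xor_assoc d1 d1, Nat.xor_self, Nat.zero_xor]
    have e4 : L.S.ac g (L.S.ac g d2) = d2 := by rw [line_fix hg hd2, line_fix hg hd2]
    rw [show g ^ 2 ^ 2 = g * g * (g * g) by simp [pow_succ, mul_assoc]]
    simp only [L.S.ac_mul]
    rw [e3, L.S.ac_xor, L.S.ac_xor, e3, e4, Nat.xor_assoc, Nat.xor_self, Nat.xor_zero]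
  obtain ⟨t, ht, hgt⟩ := conj_T64 L hF hg h4'
  obtain ⟨⟨a, ha, ea⟩, hS⟩ := hgt
  have hid' : ∀ x, gam L (t * g * t⁻¹) x = x := fun x => by
    rw [gam_mul (inv_mem ht) x (mul_mem ht hg), gam_mul hg _ ht, hid, ← gam_mul (inv_mem ht) x ht,
      mul_inv_cancel, gam_one]
  obtain ⟨f1, f2⟩ := (mem_S2 L).1 hS
  have hc := List.all_eq_true.1 sylow_faithful a (List.mem_range.2 ha)
  have hfa : fixE a = true := by
    simp only [fixE, Bool.and_eq_true, beq_iff_eq]
    exact ⟨(ea 80 (by norm_num)).symm.trans f1, (ea 160 (by norm_num)).symm.trans f2⟩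
  have hall : [1, 2, 4, 8, 80, 160, 256, 512, 1024, 2048].all (fun v => eqV (io (ap (key a) v)) (io v)) = true := by
    refine List.all_eq_true.2 fun v hv => eqV_iff.2 ?_
    have hv' : ∀ v ∈ [1, 2, 4, 8, 80, 160, 256, 512, 1024, 2048], v < 4096 ∧ onPerp v = true := by decide
    obtain ⟨l, pv⟩ := hv' v hv
    rw [← ea v l, io_ac hS l pv, hid']
  simp only [hfa, hall, Bool.and_self, Bool.not_true, Bool.false_or, List.all_eq_true, List.mem_range,
    beq_iff_eq] at hc
  have e1 : t * g * t⁻¹ = 1 := L.S.eq_of_ac fun k hk => by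
    rw [L.S.ac_one hk, ea k hk]
    exact eq_of_basis _ id (fun a _ b _ => ap_xor _ a b) (fun _ _ _ _ => rfl) hc hk
  rw [conj_eq_one_iff] at e1
  exact inv_mul_eq_one.1 e1 |>.symm

variable (L) in
theorem trans_unique (hF : Cfsg.IsOfLargeFischerTypeAt z Q) {p : V4} (h : Trans L w p) (h' : Trans L w' p) :
    w = w' :=
  faithful L hF h.1 h'.1 fun x => by rw [h.2, h'.2]

theorem trans_line {p q : V4} (hp : p ≠ 0) (h : Trans L w p) (h' : Trans L w q) :
    ∃ l : K4, l ≠ 0 ∧ q = l • p := by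
  obtain ⟨x, hx⟩ := exists_h4_ne hp
  have e := (h.2 x).symm.trans (h'.2 x)
  rw [add_right_inj] at e
  have hq : h4 x q ≠ 0 := by
    intro h0
    rw [h0, zero_smul, smul_eq_zero] at e
    exact e.elim hx hp
  refine ⟨(h4 x q)⁻¹ * h4 x p, mul_ne_zero (inv_ne_zero hq) hx, ?_⟩
  rw [mul_smul, e, inv_smul_smul₀ hq]

theorem trans_not_comm {u : (Cz z) ⧸ Q} {p q : V4} (hq : Iso q) (hw : Trans L w p) (hu : Trans L u q)
    (h : h4 p q ≠ 0) : w * u ≠ u * w := by
  intro e
  have e' := congrArg (fun t => gam L t q) e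
  rw [gam_mul hu.1 q hw.1, gam_mul hw.1 q hu.1, hu.2, hq.2, zero_smul, add_zero, hw.2, hu.2,
    h4_add_left, hq.2, zero_add, h4_smul_left, left_eq_add, smul_eq_zero, mul_eq_zero] at e'
  have h' : h4 q p ≠ 0 := by
    rw [h4_symm p q]
    exact mul_ne_zero h h
  exact e'.elim (fun e => e.elim h' h) hq.1

variable (L) in
theorem trans_sq (hF : Cfsg.IsOfLargeFischerTypeAt z Q) {p : V4} (hp : h4 p p = 0) (h : Trans L w p) :
    w * w = 1 :=
  faithful L hF (mul_mem h.1 h.1) (one_mem _) fun x => by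
    rw [gam_mul h.1 x h.1, h.2, h.2, gam_one, h4_add_left, h4_smul_left, hp, mul_zero, add_zero, add_assoc]
    funext i
    simp [add_self]

variable (L) in
theorem trans_braid (hF : Cfsg.IsOfLargeFischerTypeAt z Q) {u : (Cz z) ⧸ Q} {p q : V4} (hp : Iso p)
    (hq : Iso q) (hw : Trans L w p) (hu : Trans L u q) (h : h4 p q ≠ 0) :
    w * u * w = u * w * u ∧ Trans L (w * u * w) (p + h4 p q • q) := by
  have iw : w⁻¹ = w := inv_eq_of_mul_eq_one_right (trans_sq L hF hp.2 hw)
  have iu : u⁻¹ = u := inv_eq_of_mul_eq_one_right (trans_sq L hF hq.2 hu)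
  have h1 := trans_conj hu.1 hw
  rw [iu, hu.2] at h1
  have h2 := trans_smul (trans_conj hw.1 hu) h
  rw [iw, hw.2, smul_add, smul_smul, h4_symm p q, cube_one _ h, one_smul, add_comm] at h2
  exact ⟨trans_unique L hF h2 h1, h2⟩

variable (L) in
theorem conj_B16 (hF : Cfsg.IsOfLargeFischerTypeAt z Q) (hw : w ∈ S2 L) (hw2 : w * w = 1) :
    ∃ c ∈ S2 L, c * w * c⁻¹ ∈ B16 L.S := by
  obtain ⟨t, ht, hgt⟩ := conj_T64 L hF hw (n := 1) (by rw [pow_one, pow_two, hw2])
  obtain ⟨⟨a, ha, ea⟩, hS⟩ := hgt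
  obtain ⟨f1, f2⟩ := (mem_S2 L).1 hS
  have hsq : t * w * t⁻¹ * (t * w * t⁻¹) = 1 := by
    rw [show t * w * t⁻¹ * (t * w * t⁻¹) = t * (w * w) * t⁻¹ by group, hw2]
    group
  have hpow : ∀ j < 12, (2 : Nat) ^ j < 4096 := fun j hj =>
    lt_of_lt_of_le (Nat.pow_lt_pow_right (by norm_num) hj) (by norm_num)
  have hc := List.all_eq_true.1 sylow_invol a (List.mem_range.2 ha)
  have h1 : fixE a = true ∧ ((List.range 12).all fun j => ap (key a) (ap (key a) (2 ^ j)) == 2 ^ j) = true := by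
    refine ⟨?_, List.all_eq_true.2 fun j hj => beq_iff_eq.2 ?_⟩
    · simp only [fixE, Bool.and_eq_true, beq_iff_eq]
      exact ⟨(ea 80 (by norm_num)).symm.trans f1, (ea 160 (by norm_num)).symm.trans f2⟩
    · have hj' := hpow j (List.mem_range.1 hj)
      rw [← ea _ hj', ← ea _ (L.S.ac_lt _ _), ← L.S.ac_mul, hsq, L.S.ac_one hj']
  rw [h1.1, h1.2] at hc
  simp only [Bool.and_self, Bool.not_true, Bool.false_or, List.any_eq_true, List.all_eq_true, List.mem_range,
    beq_iff_eq] at hc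
  obtain ⟨l, hl, b, hb, e⟩ := hc
  have hl' := List.all_eq_true.1 conjW_ok l hl
  simp only [Bool.and_eq_true, List.all_eq_true, decide_eq_true_eq, beq_iff_eq] at hl'
  obtain ⟨c, hc⟩ := wf_img L.S l hl'.1.1
  have hcS : c ∈ S2 L := (mem_S2 L).2
    ⟨(hc 80 (by norm_num)).trans hl'.1.2, (hc 160 (by norm_num)).trans hl'.2⟩
  obtain ⟨v, hv⟩ := key_img L.S b (FischerLarge45.Lifts.span_facts b hb).1
  refine ⟨c * t, mul_mem hcS ht, ?_⟩
  rw [show c * t * w * (c * t)⁻¹ = c * (t * w * t⁻¹) * c⁻¹ by group]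
  refine ⟨b, hb, fun k hk => ?_⟩
  have key' : c * (t * w * t⁻¹) = v * c := L.S.eq_of_ac fun k hk => by
    rw [L.S.ac_mul c (t * w * t⁻¹), L.S.ac_mul v c, ea k hk, hc _ (FischerLarge45.Model.ap_lt _ _), hc k hk, hv _ (wf_lt l hk)]
    exact eq_of_basis (fun x => wf l (ap (key a) x)) (fun x => ap (key b) (wf l x))
      (fun a _ b _ => by simp only [ap_xor, wf_xor]) (fun a _ b _ => by simp only [ap_xor, wf_xor])
      (fun j hj => (e j hj).symm) hk
  rw [key', mul_inv_cancel_right]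
  exact hv k hk

end Cfsg.Agent.Lib.FischerLarge58
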