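import Cfsg.Agent.Lib.FischerLarge58.Base
import Cfsg.Agent.Lib.FischerLarge58.Space

/-!
# Inside `C(z)`: involutions of the centraliser of the four-group, and the class near `z`

Every involution of `C(E) ∩ C(z)` is conjugate there into `A`; an element of the class commuting
with `z` acts as a transvection, and two with the same centre differ by an element of `Q`.

Owner: helper58.
-/

set_option autoImplicit false
set_option linter.style.haveILetI false
set_option linter.unusedSectionVars false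
set_option maxRecDepth 100000

namespace Cfsg.Agent.Lib.FischerLarge58

open Cfsg.Agent.Lib.LargeFischer13
open Cfsg.Agent.Lib.FischerLarge43
open Cfsg.Agent.Lib.FischerLarge45 (Local Wof zc zc_comm zc_cases)
open Cfsg.Agent.Lib.FischerLarge45.Model (omega uSet)
open Cfsg.Agent.Lib.FischerLarge45.Codes (omega_lt)
open Cfsg.Agent.Lib.FischerLarge45.Lifts (wf wf_img)
open Cfsg.Agent.Lib.G24 (K4)
open Cfsg.Agent.Lib.U62Recog47 (V4 h4 Iso)

attribute [local instance] Bridge.acg Bridge.fin Bridge.act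

theorem uSet_iso : uSet.all (fun a => uSet.all fun b => bb a b == 0) = true := by decide +kernel

theorem adjust_ok : ∀ a < 2, ∀ b < 2, (List.range 256).any (fun v => bb v 80 == a && bb v 160 == b) = true := by
  decide +kernel

theorem e_line : (eL.map uvec) = lineL := by decide +kernel

theorem y_states : yL.all (fun y => ptsL.any fun m => ((m >>> 6) &&& 15) == y && m != 1024) = true := by
  decide +kernel

theorem eL_digits : ∀ e ∈ eL, e &&& 63 = e ∧ (e >>> 6) &&& 15 = 0 ∧ e >>> 10 = 0 := by decide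

universe u

variable {G : Type u} [Group G] [Finite G] {z : G} {Q : Subgroup (Cz z)} [Q.Normal]
variable {L : Local z Q} (K : Ctx L)

theorem nat_bit_cast {a : Nat} (h : a < 2) (h0 : (a : ZMod 2) = 0) : a = 0 := by
  interval_cases a <;> revert h0 <;> decide

/-- the centraliser of the four-group inside `C(z)` -/
noncomputable def Ctx.C1 : Subgroup (Cz z) := K.CE.comap (Cz z).subtype

theorem Ctx.el_line : K.P.el 4 = sU L 4 ∧ K.P.el 8 = sU L 8 := by
  constructor <;> simp [Base.el, Base.eY, zb_zero]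

theorem Ctx.mem_C1 {c : Cz z} : c ∈ K.C1 ↔ Commute (sU L 4) c ∧ Commute (sU L 8) c := by
  rw [← K.el_line.1, ← K.el_line.2, Ctx.C1, Subgroup.mem_comap, K.mem_CE]
  exact ⟨fun h => ⟨Subtype.ext h.1.eq, Subtype.ext h.2.eq⟩,
    fun h => ⟨congrArg Subtype.val h.1.eq, congrArg Subtype.val h.2.eq⟩⟩

theorem Ctx.zc_mem_C1 : zc z ∈ K.C1 := K.z_mem_CE

theorem Ctx.el_mem_C1 {m : Nat} (hm : m < 2048) : K.P.el m ∈ K.C1 := K.g_mem_CE hm

theorem Ctx.eY_mem_C1 (y : Nat) : K.P.eY y ∈ K.C1 := by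
  have h4 := L.data.U_le_W (sU_mem L (u := 4) (by norm_num))
  have h8 := L.data.U_le_W (sU_mem L (u := 8) (by norm_num))
  exact K.mem_C1.2 ⟨commW L h4 (K.P.eY_mem y), commW L h8 (K.P.eY_mem y)⟩

theorem Ctx.mem_C1_Q (q : Q) {v : Nat} (hv : v < 4096) (hq : L.br.π q = L.S.E v) :
    (q : Cz z) ∈ K.C1 ↔ onPerp v = true := by
  have key : ∀ u, (hu : u < 64) → (Commute (sU L u) (q : Cz z) ↔ bb v (uvec u) = 0) := by
    intro u hu
    have h := conj_code L q ⟨_, L.data.hUQ (sU_mem L hu)⟩ hv (uvec_spec hu).2.1 hq (π_sU L hu rfl)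
    constructor
    · intro hc
      have hc' : (q : Cz z) * sU L u * (q : Cz z)⁻¹ = sU L u := by rw [← hc.eq, mul_inv_cancel_right]
      rw [show ((⟨sU L u, L.data.hUQ (sU_mem L hu)⟩ : Q) : Cz z) = sU L u from rfl, hc'] at h
      have h0 := mul_eq_left.1 h.symm
      rw [← zb_zero (z := z)] at h0
      exact nat_bit_cast (Nat.mod_lt _ (by norm_num)) (zb_inj L h0)
    · intro hb
      rw [hb, Nat.cast_zero, zb_zero, mul_one] at h
      exact (mul_inv_eq_iff_eq_mul.1 h).symm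
  obtain ⟨e4, e8, -⟩ := e_codes
  rw [K.mem_C1, key 4 (by norm_num), key 8 (by norm_num), e4, e8, onPerp_iff hv]

theorem Ctx.mk_mem_S2 {c : Cz z} (hc : c ∈ K.C1) : (QuotientGroup.mk c : (Cz z) ⧸ Q) ∈ S2 L := by
  have key : ∀ u, (hu : u < 64) → Commute (sU L u) c → L.S.ac (QuotientGroup.mk c) (uvec u) = uvec u := by
    intro u hu h
    refine L.S.E_inj (L.S.ac_lt _ _) (uvec_spec hu).2.1 ?_
    let p : Q := ⟨_, L.data.hUQ (sU_mem L hu)⟩
    rw [L.S.E_ac, ← π_sU L (q := p) hu rfl]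
    exact L.br.π_conj c p p (by show sU L u = c * sU L u * c⁻¹; rw [← h.eq, mul_inv_cancel_right])
  obtain ⟨e4, e8, -⟩ := e_codes
  obtain ⟨h4, h8⟩ := K.mem_C1.1 hc
  exact (mem_S2 L).2 ⟨by rw [← e4]; exact key 4 (by norm_num) h4, by rw [← e8]; exact key 8 (by norm_num) h8⟩

theorem Ctx.lift_stab {w : (Cz z) ⧸ Q} (hw : w ∈ S2 L) :
    ∃ c ∈ K.C1, (QuotientGroup.mk c : (Cz z) ⧸ Q) = w := by
  obtain ⟨c, rfl⟩ := QuotientGroup.mk_surjective w
  obtain ⟨f1, f2⟩ := (mem_S2 L).1 hw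
  obtain ⟨e4, e8, -⟩ := e_codes
  have key : ∀ u, (hu : u < 64) → L.S.ac (QuotientGroup.mk c) (uvec u) = uvec u →
      ∃ a < 2, c * sU L u * c⁻¹ = sU L u * zb ((a : Nat) : ZMod 2) := by
    intro u hu hf
    let p : Q := ⟨_, L.data.hUQ (sU_mem L hu)⟩
    let p' : Q := ⟨c * p * c⁻¹, Subgroup.Normal.conj_mem inferInstance _ p.2 c⟩
    have hp : L.br.π p = L.br.π p' := by
      rw [π_conj_code L c p (f := fun _ => uvec u) (uvec_spec hu).2.1 (π_sU L hu rfl) hf (q' := p') rfl,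
        π_sU L (q := p) hu rfl]
    rcases zc_cases L.br hp with e | e
    · exact ⟨0, by norm_num, by rw [Nat.cast_zero, zb_zero, mul_one]; exact e⟩
    · exact ⟨1, by norm_num, by rw [Nat.cast_one, zb_one]; exact e⟩
  obtain ⟨a, ha, ea⟩ := key 4 (by norm_num) (by rw [e4]; exact f1)
  obtain ⟨b, hb, eb⟩ := key 8 (by norm_num) (by rw [e8]; exact f2)
  obtain ⟨v, hv, hvb⟩ := List.any_eq_true.1 (adjust_ok a ha b hb)
  simp only [Bool.and_eq_true, beq_iff_eq] at hvb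
  have hv4 : v < 4096 := lt_of_lt_of_le (List.mem_range.1 hv) (by norm_num)
  refine ⟨(pre L v : Cz z) * c, K.mem_C1.2 ⟨?_, ?_⟩, ?_⟩
  · have h := conj_code L (pre L v) ⟨_, L.data.hUQ (sU_mem L (u := 4) (by norm_num))⟩ hv4
      (uvec_spec (show 4 < 64 by norm_num)).2.1 (π_pre L v) (π_sU L (by norm_num) rfl)
    rw [e4, hvb.1] at h
    refine (mul_inv_eq_iff_eq_mul.1 ?_).symm
    calc (pre L v : Cz z) * c * sU L 4 * ((pre L v : Cz z) * c)⁻¹
        = (pre L v : Cz z) * (c * sU L 4 * c⁻¹) * (pre L v : Cz z)⁻¹ := by group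
      _ = sU L 4 := by
          rw [ea, ← conj_mul, (zb_comm (pre L v : Cz z) _).eq, mul_inv_cancel_right, h, mul_assoc, ← zb_add L,
            CharTwo.add_self_eq_zero, zb_zero, mul_one]
  · have h := conj_code L (pre L v) ⟨_, L.data.hUQ (sU_mem L (u := 8) (by norm_num))⟩ hv4
      (uvec_spec (show 8 < 64 by norm_num)).2.1 (π_pre L v) (π_sU L (by norm_num) rfl)
    rw [e8, hvb.2] at h
    refine (mul_inv_eq_iff_eq_mul.1 ?_).symm
    calc (pre L v : Cz z) * c * sU L 8 * ((pre L v : Cz z) * c)⁻¹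
        = (pre L v : Cz z) * (c * sU L 8 * c⁻¹) * (pre L v : Cz z)⁻¹ := by group
      _ = sU L 8 := by
          rw [eb, ← conj_mul, (zb_comm (pre L v : Cz z) _).eq, mul_inv_cancel_right, h, mul_assoc, ← zb_add L,
            CharTwo.add_self_eq_zero, zb_zero, mul_one]
  · rw [QuotientGroup.mk_mul, (QuotientGroup.eq_one_iff _).2 (pre L v).2, one_mul]

theorem Ctx.plane_lift {k : Nat} (hk : k < 11) :
    ∃ c ∈ K.C1, ∀ v < 4096, L.S.ac (QuotientGroup.mk c) v = wf (planeW.getD k []) v := by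
  have h := List.all_eq_true.1 planeW_ok k (List.mem_range.2 hk)
  simp only [Bool.and_eq_true, List.all_eq_true, decide_eq_true_eq, beq_iff_eq] at h
  obtain ⟨w, hw⟩ := wf_img L.S _ h.1.1.1
  obtain ⟨c, hc, e⟩ := K.lift_stab (w := w) ((mem_S2 L).2
    ⟨(hw 80 (by norm_num)).trans h.1.1.2, (hw 160 (by norm_num)).trans h.1.2⟩)
  exact ⟨c, hc, e ▸ hw⟩

theorem Ctx.kv_fixed {y : Nat} (hy : y < 16) {v : Nat} (hv : v < 4096) (h : bimg y v = v) :
    dd y v = 0 ∧ K.P.kv y v = 0 := by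
  obtain ⟨hd, hlt⟩ := dd_spec hy hv
  rw [h, Nat.xor_self] at hd
  have hd0 : dd y v = 0 := uvec_inj hlt (by norm_num) (hd.trans (by decide +kernel))
  refine ⟨hd0, ?_⟩
  have h1 := omega_lt hv
  obtain ⟨d1, k1⟩ := K.P.kv_omega hy hv
  obtain ⟨d2, k2⟩ := K.P.kv_omega hy h1
  have hu : uom 0 = 0 := by decide +kernel
  rw [hd0, hu] at d1
  rw [d1, hu] at d2
  have hadd := K.P.kv_add hy h1 (omega_lt h1)
  have hb : bb (omega v) (uvec 0) = 0 := by
    have h0 : uvec 0 = 0 := by decide +kernel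
    have h00 : qq 0 = 0 := by decide +kernel
    have := qq_lt (omega v)
    simp only [bb, h0, Nat.xor_zero, h00]
    omega
  have hv' : omega v ^^^ omega (omega v) = v := by
    have h := List.all_eq_true.1 forms_ok v (List.mem_range.2 hv)
    simp only [Bool.and_eq_true, beq_iff_eq] at h
    have h3 := h.2
    rw [Nat.xor_assoc] at h3
    exact (Nat.xor_eq_zero_iff.1 h3).symm
  rw [hv', d2, hb, k2, k1, Nat.cast_zero, add_zero, CharTwo.add_self_eq_zero] at hadd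
  exact hadd

theorem Ctx.eY_comm {y : Nat} (hy : y < 16) (p : Q) {v : Nat} (hv : v < 4096) (hp : L.br.π p = L.S.E v)
    (h : bimg y v = v) : Commute (p : Cz z) (K.P.eY y) := by
  obtain ⟨h0, hk⟩ := K.kv_fixed hy hv h
  have hc := K.P.cm_spec hy hv hp
  rw [h0, hk, sU_zero, zb_zero, mul_one] at hc
  exact mul_inv_eq_iff_eq_mul.1 (mul_inv_eq_one.1 hc)

/-- a moved plane carries an element into `A` -/
theorem Ctx.plane_into {y k : Nat} (hy : y < 16) (hk : k ∈ fixW.getD y []) {c : Cz z}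
    (hc : ∀ v < 4096, L.S.ac (QuotientGroup.mk c) v = wf (planeW.getD k []) v) (q : Q) {v : Nat}
    (hv : v < 4096) (hq : L.br.π q = L.S.E v) (hm : (planeM.getD k 0).testBit v = true) :
    c⁻¹ * ((q : Cz z) * K.P.eY y) * c ∈ Wof L.U L.B := by
  have hf := List.all_eq_true.1 (List.all_eq_true.1 fixW_ok y (List.mem_range.2 hy)) k hk
  simp only [Bool.and_eq_true, decide_eq_true_eq, List.all_eq_true, beq_iff_eq] at hf
  have hp := List.all_eq_true.1 planeW_ok k (List.mem_range.2 hf.1)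
  simp only [Bool.and_eq_true, beq_iff_eq] at hp
  rw [← hp.2, testBit_maskOf, List.mem_map] at hm
  obtain ⟨α', hα', eα'⟩ := hm
  refine centralizer_U L fun a ha => ?_
  obtain ⟨haQ, α, hα, eα⟩ := (L.mem_U a).1 ha
  have hα4 := (FischerLarge45.uSet_facts α hα).1
  have hα4' := (FischerLarge45.uSet_facts α' hα').1
  let p : Q := ⟨c * a * c⁻¹, Subgroup.Normal.conj_mem inferInstance _ haQ c⟩
  have hπ : L.br.π p = L.S.E (wf (planeW.getD k []) α) :=
    π_conj_code L c ⟨a, haQ⟩ hα4 eα.symm (hc α hα4) rfl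
  have hb4 := FischerLarge45.Lifts.wf_lt (planeW.getD k []) hα4
  have hbb : bb v (wf (planeW.getD k []) α) = 0 := by
    rw [← eα', ← hc α' hα4', ← hc α hα4, bb_ac L _ hα4' hα4]
    simpa using List.all_eq_true.1 (List.all_eq_true.1 uSet_iso α' hα') α hα
  have h1 : Commute (q : Cz z) (p : Cz z) := by
    have h := conj_code L q p hv hb4 hq hπ
    rw [hbb, Nat.cast_zero, zb_zero, mul_one] at h
    exact mul_inv_eq_iff_eq_mul.1 h
  have h2 : Commute (p : Cz z) (K.P.eY y) := K.eY_comm hy p hb4 hπ (hf.2 α hα)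
  have h3 : Commute ((q : Cz z) * K.P.eY y) (c * a * c⁻¹) := h1.mul_left h2.symm
  have h4 := h3.map (MulAut.conj c⁻¹)
  simpa [mul_assoc] using h4

/-- an involution over `eY y` lies in a moved plane -/
theorem Ctx.exists_plane {X : Cz z} (hX : X ∈ K.C1) (hX2 : X * X = 1) {y : Nat} (hy : y < 16)
    (hmk : (QuotientGroup.mk X : (Cz z) ⧸ Q) = QuotientGroup.mk (K.P.eY y)) :
    ∃ k ∈ fixW.getD y [], ∀ c : Cz z, (∀ v < 4096, L.S.ac (QuotientGroup.mk c) v = wf (planeW.getD k []) v) →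
      c⁻¹ * X * c ∈ Wof L.U L.B := by
  have hq : X * (K.P.eY y)⁻¹ ∈ Q := by
    rw [← QuotientGroup.eq_one_iff, QuotientGroup.mk_mul, QuotientGroup.mk_inv, hmk, mul_inv_cancel]
  set q : Q := ⟨_, hq⟩
  obtain ⟨v, hv, ev⟩ := L.S.E_surj (L.br.π q)
  have hXq : X = (q : Cz z) * K.P.eY y := (inv_mul_cancel_right X _).symm
  have hperp : onPerp v = true :=
    (K.mem_C1_Q q hv ev.symm).1 (mul_mem hX (inv_mem (K.eY_mem_C1 y)))
  have hyy : K.P.eY y * K.P.eY y = 1 := L.data.W_elem _ (K.P.eY_mem y)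
  have hyi : (K.P.eY y)⁻¹ = K.P.eY y := inv_eq_of_mul_eq_one_right hyy
  let q' : Q := ⟨K.P.eY y * q * (K.P.eY y)⁻¹, Subgroup.Normal.conj_mem inferInstance _ q.2 _⟩
  have hq' : q * q' = 1 := Subtype.ext (by
    show (q : Cz z) * (K.P.eY y * q * (K.P.eY y)⁻¹) = 1
    rw [← hX2, hXq, hyi]
    simp only [mul_assoc])
  have hfix : bimg y v = v := by
    have h := congrArg L.br.π hq'
    rw [L.br.π_mul, π_conj_code L (K.P.eY y) q (f := bimg y) hv ev.symm (K.P.ac_eY y hv) (q' := q') rfl, ← ev,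
      ← L.S.E_xor, L.br.π_one, ← E_zero L] at h
    exact (Nat.xor_eq_zero_iff.1 (L.S.E_inj (Nat.xor_lt_two_pow (n := 12) hv (bimg_lt hv)) (by norm_num) h)).symm
  have hqq : qq v = 0 := by
    have hc := K.eY_comm hy q hv ev.symm hfix
    have gen : ∀ a b x : Cz z, a * b = b * a → b * b = 1 → x = a * b → x * x = 1 → a * a = 1 := by
      intro a b x h1 h2 h3 h4
      rw [← h4, h3, mul_assoc a b, ← mul_assoc b, ← h1, mul_assoc a b b, h2, mul_one]
    have hqsq : (q : Cz z) * (q : Cz z) = 1 := gen _ _ _ hc.eq hyy hXq hX2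
    have h := sq_code L q hv ev.symm
    rw [hqsq, ← zb_zero (z := z)] at h
    exact nat_bit_cast (qq_lt v) (zb_inj L h).symm
  have hc := List.all_eq_true.1 (List.all_eq_true.1 cand_ok y (List.mem_range.2 hy)) v (List.mem_range.2 hv)
  simp only [hperp, hqq, hfix, beq_self_eq_true, Bool.and_self, Bool.not_true, Bool.false_or,
    List.any_eq_true] at hc
  obtain ⟨k, hk, hm⟩ := hc
  refine ⟨k, hk, fun c hc => ?_⟩
  rw [hXq]
  exact K.plane_into hy hk hc q hv ev.symm hm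

/-- every involution is conjugate into `A` -/
theorem Ctx.into_A {X : Cz z} (hX : X ∈ K.C1) (hX2 : X * X = 1) :
    ∃ c ∈ K.C1, ∃ m < 2048, c * X * c⁻¹ = K.P.el m := by
  obtain ⟨t, ht, hB⟩ := conj_B16 L K.hF (K.mk_mem_S2 hX)
    (by rw [← QuotientGroup.mk_mul, hX2, QuotientGroup.mk_one])
  obtain ⟨c, hc, rfl⟩ := K.lift_stab ht
  rw [← QuotientGroup.mk_inv, ← QuotientGroup.mk_mul, ← QuotientGroup.mk_mul] at hB
  have hX' : c * X * c⁻¹ ∈ K.C1 := mul_mem (mul_mem hc hX) (inv_mem hc)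
  have hX'2 : c * X * c⁻¹ * (c * X * c⁻¹) = 1 := by
    rw [show c * X * c⁻¹ * (c * X * c⁻¹) = c * (X * X) * c⁻¹ by group, hX2]
    group
  obtain ⟨q, hq, hqW⟩ := L.data.exists_W ((L.mem_B _).2 hB)
  obtain ⟨m0, -, e0⟩ := K.P.el_surj hqW
  have hy : (m0 >>> 6) &&& 15 < 16 := lt_of_le_of_lt Nat.and_le_right (by norm_num)
  have hmk : (QuotientGroup.mk (c * X * c⁻¹) : (Cz z) ⧸ Q) = QuotientGroup.mk (K.P.eY ((m0 >>> 6) &&& 15)) := by
    rw [← K.P.mk_el, e0]
    conv_rhs => rw [QuotientGroup.mk_mul, (QuotientGroup.eq_one_iff q⁻¹).2 (Q.inv_mem hq), one_mul]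
  obtain ⟨k, hk, hall⟩ := K.exists_plane hX' hX'2 hy hmk
  have hk11 : k < 11 := by
    have hf := List.all_eq_true.1 (List.all_eq_true.1 fixW_ok _ (List.mem_range.2 hy)) k hk
    simp only [Bool.and_eq_true, decide_eq_true_eq] at hf
    exact hf.1
  obtain ⟨d, hd, ed⟩ := K.plane_lift hk11
  obtain ⟨m, hm, em⟩ := K.P.el_surj (hall d ed)
  exact ⟨d⁻¹ * c, mul_mem (inv_mem hd) hc, m, hm, by rw [em]; group⟩

/-- in the class, commuting with `z`, other than `z` -/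
def Ctx.Near (X : Cz z) : Prop := K.InD (X : G) ∧ X ≠ zc z

theorem Ctx.near_mem {X : Cz z} (hX : K.Near X) : X ∈ K.C1 := K.inD_mem hX.1

theorem Ctx.near_sq {X : Cz z} (hX : K.Near X) : X * X = 1 := Subtype.ext (K.inD_sq hX.1)

theorem Ctx.near_conj {c X : Cz z} (hc : c ∈ K.C1) (hX : K.Near X) : K.Near (c * X * c⁻¹) := by
  refine ⟨K.inD_conj (x := (c : G)) hc hX.1, fun h => hX.2 ?_⟩
  have h' := congrArg (fun t => c⁻¹ * t * c) h
  simp only [show c⁻¹ * (c * X * c⁻¹) * c = X by group] at h'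
  rw [h', mul_assoc, ← (zc_comm c).eq, inv_mul_cancel_left]

theorem pts_facts {m : Nat} (hm : m ∈ ptsL) (hne : m ≠ 1024) :
    m < 2048 ∧ ((m >>> 6) &&& 15) ∈ yL ∧ ((m >>> 6) &&& 15) ∈ List.range' 1 15 ∧
      st ((m >>> 6) &&& 15) (lc m) = m := by
  have h := List.all_eq_true.1 ptsL_ok m hm
  simp only [Bool.and_eq_true, Bool.or_eq_true, decide_eq_true_eq, beq_iff_eq] at h
  obtain ⟨⟨⟨hlt, -⟩, -⟩, h'⟩ := h
  obtain ⟨hy, hst⟩ := h'.resolve_left hne
  have hy' : ∀ y ∈ yL, y ∈ List.range' 1 15 := by decide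
  refine ⟨hlt, hy, hy' _ hy, ?_⟩
  have hb : m >>> 10 < 2 := by rw [Nat.shiftRight_eq_div_pow]; omega
  obtain ⟨h1, h2, -⟩ := state_val (m &&& 63) (lt_of_le_of_lt Nat.and_le_right (by norm_num)) _ hb
  unfold lc st
  rw [h1, h2]
  exact hst

theorem Ctx.el_near {m : Nat} (hm : m ∈ ptsL) (hne : m ≠ 1024) : K.Near (K.P.el m) := by
  refine ⟨K.pts_inD hm, fun h => hne ?_⟩
  rw [← K.P.el_z] at h
  exact K.P.el_inj (pts_facts hm hne).1 (by norm_num) h

theorem Ctx.near_form {X : Cz z} (hX : K.Near X) :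
    ∃ c ∈ K.C1, ∃ m ∈ ptsL, m ≠ 1024 ∧ X = c * K.P.el m * c⁻¹ := by
  obtain ⟨c, hc, m, hm, e⟩ := K.into_A (K.near_mem hX) (K.near_sq hX)
  have hn := K.near_conj hc hX
  rw [e] at hn
  refine ⟨c⁻¹, inv_mem hc, m, K.inD_pts hm hn.1, fun h => hn.2 ?_, ?_⟩
  · rw [h, K.P.el_z]
  · rw [← e]; group

theorem pY_iso {y : Nat} (hy : y ∈ yL) : Iso (pY y) := by
  have h := List.all_eq_true.1 pY_ok y hy
  simp only [Bool.and_eq_true, decide_eq_true_eq] at h
  exact h.1

theorem Ctx.trans_el {m : Nat} (hm : m < 2048) (hy : ((m >>> 6) &&& 15) ∈ yL) :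
    Trans L (QuotientGroup.mk (K.P.el m)) (pY ((m >>> 6) &&& 15)) := by
  refine ⟨K.mk_mem_S2 (K.el_mem_C1 hm), fun x => ?_⟩
  obtain ⟨h1, h2, h3⟩ := sec_spec x
  show io (L.S.ac _ (sec x)) = _
  rw [K.P.mk_el, K.P.ac_eY _ h3]
  have h := List.all_eq_true.1 (List.all_eq_true.1 transY_ok _ hy) (sec x) (List.mem_range.2 h3)
  simp only [h2, Bool.not_true, Bool.false_or] at h
  rw [eqV_iff.1 h, h1]

theorem Ctx.near_trans {X : Cz z} (hX : K.Near X) : ∃ p, Iso p ∧ Trans L (QuotientGroup.mk X) p := by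
  obtain ⟨c, hc, m, hm, hne, rfl⟩ := K.near_form hX
  obtain ⟨hlt, hy, -, -⟩ := pts_facts hm hne
  exact ⟨_, gam_iso (K.mk_mem_S2 hc) (pY_iso hy),
    by rw [QuotientGroup.mk_mul, QuotientGroup.mk_mul, QuotientGroup.mk_inv]
       exact trans_conj (K.mk_mem_S2 hc) (K.trans_el hlt hy)⟩

theorem Ctx.exists_near {p : V4} (hp : Iso p) : ∃ X, K.Near X ∧ Trans L (QuotientGroup.mk X) p := by
  obtain ⟨i, hi, rfl⟩ := p256_surj p
  have h := List.all_eq_true.1 cover_ok i (List.mem_range.2 hi)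
  simp only [ne_eq, hp.1, not_false_eq_true, decide_true, hp.2, Bool.and_self, Bool.not_true,
    Bool.false_or, List.any_eq_true, List.mem_range, eqV_iff] at h
  obtain ⟨k, hk, y, hy, l, hl, e⟩ := h
  obtain ⟨m, hm, hm'⟩ := List.any_eq_true.1 (List.all_eq_true.1 y_states y hy)
  simp only [Bool.and_eq_true, beq_iff_eq, bne_iff_ne, ne_eq] at hm'
  obtain ⟨hlt, hy', -, -⟩ := pts_facts hm hm'.2
  obtain ⟨c, hc, ec⟩ := K.plane_lift hk
  refine ⟨c * K.P.el m * c⁻¹, K.near_conj hc (K.el_near hm hm'.2), ?_⟩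
  have hgam : gam L (QuotientGroup.mk c) (pY y) = pYW k y := by
    show io (L.S.ac _ _) = io _
    rw [ec _ (sec_spec _).2.2]
  rw [e, ← hgam, QuotientGroup.mk_mul, QuotientGroup.mk_mul, QuotientGroup.mk_inv]
  have ht := K.trans_el hlt hy'
  rw [hm'.1] at ht
  refine trans_smul (trans_conj (K.mk_mem_S2 hc) ht) ?_
  rintro rfl
  revert hl
  decide

/-- two near elements over the same element of `C(z)/Q` are conjugate under `Q` -/
theorem Ctx.fibre {X Y : Cz z} (hX : K.Near X) (hY : K.Near Y)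
    (h : (QuotientGroup.mk X : (Cz z) ⧸ Q) = QuotientGroup.mk Y) :
    ∃ q : Q, (q : Cz z) ∈ K.C1 ∧ Y = (q : Cz z) * X * (q : Cz z)⁻¹ := by
  obtain ⟨c, hc, m, hm, hne, rfl⟩ := K.near_form hX
  obtain ⟨hlt, hy, hy', hst⟩ := pts_facts hm hne
  set y := (m >>> 6) &&& 15
  have hy16 : y < 16 := lt_of_le_of_lt Nat.and_le_right (by norm_num)
  have hY' : K.Near (c⁻¹ * Y * c) := by
    have := K.near_conj (inv_mem hc) hY
    rwa [inv_inv] at this
  have hmk : (QuotientGroup.mk (c⁻¹ * Y * c) : (Cz z) ⧸ Q) = QuotientGroup.mk (K.P.eY y) := by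
    rw [← K.P.mk_el m, QuotientGroup.mk_mul, QuotientGroup.mk_mul, ← h]
    simp only [QuotientGroup.mk_mul, QuotientGroup.mk_inv]
    group
  obtain ⟨k, hk, hall⟩ := K.exists_plane (K.near_mem hY') (K.near_sq hY') hy16 hmk
  have hk11 : k < 11 := by
    have hf := List.all_eq_true.1 (List.all_eq_true.1 fixW_ok _ (List.mem_range.2 hy16)) k hk
    simp only [Bool.and_eq_true, decide_eq_true_eq] at hf
    exact hf.1
  obtain ⟨d, hd, ed⟩ := K.plane_lift hk11
  obtain ⟨m1, hm1, e1⟩ := K.P.el_surj (hall d ed)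
  -- the given state in the same plane
  have hu : m &&& 63 < 64 := lt_of_le_of_lt Nat.and_le_right (by norm_num)
  let q0 : Q := ⟨sU L (m &&& 63), L.data.hUQ (sU_mem L hu)⟩ *
    ⟨zb ((m >>> 10 : Nat) : ZMod 2), L.data.hUQ (zb_mem L _)⟩
  have hq0 : L.br.π q0 = L.S.E (uvec (m &&& 63)) := by
    rw [L.br.π_mul, π_sU L hu rfl, π_zb L _ rfl, add_zero]
  have hmask : (planeM.getD k 0).testBit (uvec (m &&& 63)) = true :=
    List.all_eq_true.1 (List.all_eq_true.1 plane_state m hm) k hk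
  have hel : K.P.el m = (q0 : Cz z) * K.P.eY y := by
    show sU L _ * K.P.eY y * zb _ = sU L _ * zb _ * K.P.eY y
    rw [mul_assoc, (zb_comm (K.P.eY y) _).eq, ← mul_assoc]
  have hW2 := K.plane_into hy16 hk ed q0 (uvec_spec hu).2.1 hq0 hmask
  rw [← hel] at hW2
  obtain ⟨m2, hm2, e2⟩ := K.P.el_surj hW2
  have hdi := inv_mem hd
  have hn1 : K.Near (K.P.el m1) := by
    have := K.near_conj hdi hY'
    rw [inv_inv] at this
    rwa [← e1] at this
  have hn2 : K.Near (K.P.el m2) := by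
    have := K.near_conj hdi (K.el_near hm hne)
    rw [inv_inv] at this
    rwa [← e2] at this
  have hp1 := K.inD_pts hm1 hn1.1
  have hp2 := K.inD_pts hm2 hn2.1
  have hne1 : m1 ≠ 1024 := fun e => hn1.2 (by rw [e, K.P.el_z])
  have hne2 : m2 ≠ 1024 := fun e => hn2.2 (by rw [e, K.P.el_z])
  have hyy : (m1 >>> 6) &&& 15 = (m2 >>> 6) &&& 15 := by
    refine K.P.eY_mk_inj (lt_of_le_of_lt Nat.and_le_right (by norm_num))
      (lt_of_le_of_lt Nat.and_le_right (by norm_num)) ?_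
    rw [← K.P.mk_el, ← K.P.mk_el, e1, e2]
    have h' := hmk
    rw [← K.P.mk_el m] at h'
    simpa only [QuotientGroup.mk_mul] using
      congrArg (fun t => (QuotientGroup.mk d⁻¹ : (Cz z) ⧸ Q) * t * QuotientGroup.mk d) h'
  obtain ⟨-, -, hy2, hst2⟩ := pts_facts hp2 hne2
  obtain ⟨-, -, -, hst1⟩ := pts_facts hp1 hne1
  have hf := List.all_eq_true.1 (List.all_eq_true.1 fibre_ok m2 hp2) m1 hp1
  simp only [beq_iff_eq, hne1, hne2, hyy, beq_self_eq_true, Bool.not_true, Bool.or_eq_true,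
    false_or, Bool.and_eq_true, decide_eq_true_eq, List.any_eq_true, Bool.false_eq_true] at hf
  obtain ⟨⟨hl2, -⟩, v, hv, ⟨⟨hperp, hv4⟩, hcj⟩⟩ := hf
  have hconj := K.P.conj_el hy2 hl2 hv4
  rw [hst2] at hconj
  rw [show ((lc m2 &&& 63) ^^^ dd ((m2 >>> 6) &&& 15) v) +
      64 * (((lc m2 >>> 6) + kap ((m2 >>> 6) &&& 15) (dd ((m2 >>> 6) &&& 15) v) +
        bb v (uvec (lc m2 &&& 63))) % 2) = lc m1 from hcj, ← hyy, hst1, e1, e2] at hconj
  let q : Q := ⟨c * d * (pre L v : Cz z) * (c * d)⁻¹, Subgroup.Normal.conj_mem inferInstance _ (pre L v).2 _⟩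
  refine ⟨q, mul_mem (mul_mem (mul_mem hc hd) ((K.mem_C1_Q _ hv4 (π_pre L v)).2 hperp))
    (inv_mem (mul_mem hc hd)), ?_⟩
  show Y = c * d * (pre L v : Cz z) * (c * d)⁻¹ * (c * K.P.el m * c⁻¹) * (c * d * (pre L v : Cz z) * (c * d)⁻¹)⁻¹
  calc Y = c * d * (d⁻¹ * (c⁻¹ * Y * c) * d) * (c * d)⁻¹ := by group
    _ = _ := by rw [← hconj]; group

/-- a translation with vanishing offset fixes the element -/
theorem Ctx.shift_eq {X : Cz z} (hX : K.Near X) {p : V4} (hp : Trans L (QuotientGroup.mk X) p) (q : Q)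
    (hqC : (q : Cz z) ∈ K.C1) {v : Nat} (hv : v < 4096) (hq : L.br.π q = L.S.E v)
    (h : h4 (io v) p = 0) : (q : Cz z) * X * (q : Cz z)⁻¹ = X := by
  have hperp := (K.mem_C1_Q q hv hq).1 hqC
  have hX' := K.mk_mem_S2 (K.near_mem hX)
  have hac := L.S.ac_lt (QuotientGroup.mk X) v
  let r' : Q := ⟨X * (q : Cz z)⁻¹ * X⁻¹, Subgroup.Normal.conj_mem inferInstance _ (Q.inv_mem q.2) X⟩
  have hr : L.br.π (q * r') = L.S.E (v ^^^ L.S.ac (QuotientGroup.mk X) v) := by
    rw [L.br.π_mul, hq, π_conj_code L X q⁻¹ (f := L.S.ac (QuotientGroup.mk X)) hv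
      ((L.br.π_inv q).trans hq) rfl rfl, ← L.S.E_xor]
  have hd : v ^^^ L.S.ac (QuotientGroup.mk X) v ∈ lineL :=
    io_line (Nat.xor_lt_two_pow (n := 12) hv hac) (onPerp_xor hperp (onPerp_ac hX' hv hperp)) (by
      rw [io_xor, io_ac hX' hv hperp, hp.2, h, zero_smul, add_zero]
      funext i
      exact add_self _)
  rw [← e_line, List.mem_map] at hd
  obtain ⟨e, he, ee⟩ := hd
  have he64 : ∀ e ∈ eL, e < 64 := by decide
  have hel : K.P.el e = sU L e := by
    have hm := eL_digits e he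
    simp [Base.el, hm.1, hm.2.1, hm.2.2, Base.eY, zb_zero]
  have hcases := zc_cases L.br ((π_sU L (q := ⟨sU L e, L.data.hUQ (sU_mem L (he64 e he))⟩) (he64 e he) rfl).trans
    ((congrArg L.S.E ee).trans hr.symm))
  have hr' : ((q * r' : Q) : Cz z) = (q : Cz z) * X * (q : Cz z)⁻¹ * X⁻¹ := by
    show (q : Cz z) * (X * (q : Cz z)⁻¹ * X⁻¹) = _
    group
  rw [hr'] at hcases
  have hY := K.near_conj hqC hX
  have he2 := (eL_facts e he).1
  rcases hcases with e1 | e1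
  · change _ = sU L e at e1
    rw [← hel] at e1
    have hcomm : Commute (K.P.el e : Cz z) X := Subtype.ext (K.e_comm (K.inD_mem hX.1) ⟨e, he, rfl⟩).eq
    refine Subtype.ext (K.inD_unique hX.1 hY.1 ⟨e, he, ?_⟩).symm
    refine congrArg Subtype.val (?_ : K.P.el e = X⁻¹ * ((q : Cz z) * X * (q : Cz z)⁻¹))
    rw [mul_inv_eq_iff_eq_mul.1 e1, hcomm.eq, inv_mul_cancel_left]
  · exfalso
    change _ = sU L e * zc z at e1
    rw [← hel, ← K.P.el_z, ← K.P.el_xor he2 (by norm_num)] at e1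
    have hx : e ^^^ 1024 < 2048 := Nat.xor_lt_two_pow (n := 11) he2 (by norm_num)
    obtain ⟨c, hc, m, hm, hne, rfl⟩ := K.near_form hX
    obtain ⟨hlt, -, -, -⟩ := pts_facts hm hne
    have hce : Commute (K.P.el (e ^^^ 1024)) c := by
      rw [K.P.el_xor he2 (by norm_num), K.P.el_z]
      exact Commute.mul_left (Subtype.ext (K.e_comm hc ⟨e, he, rfl⟩).eq) (zc_comm c).symm
    have h' := K.near_conj (inv_mem hc) hY
    rw [mul_inv_eq_iff_eq_mul.1 e1, show c⁻¹ * (K.P.el (e ^^^ 1024) * (c * K.P.el m * c⁻¹)) * c⁻¹⁻¹ =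
      c⁻¹ * (K.P.el (e ^^^ 1024) * c) * K.P.el m by group, hce.eq, inv_mul_cancel_left,
      ← K.P.el_xor hx hlt] at h'
    have hpts := K.inD_pts (Nat.xor_lt_two_pow (n := 11) hx hlt) h'.1
    have h2 := List.all_eq_true.1 ptsL_ok m hm
    simp only [Bool.and_eq_true] at h2
    have h3 := List.all_eq_true.1 h2.1.2 e he
    simp only [Bool.and_eq_true, Bool.not_eq_true'] at h3
    rw [← testBit_maskOf, ptsM_ok, show e ^^^ 1024 ^^^ m = m ^^^ 1024 ^^^ e by
      rw [Nat.xor_comm e 1024, Nat.xor_comm (1024 ^^^ e), Nat.xor_assoc], h3.2] at hpts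
    exact Bool.noConfusion hpts

end Cfsg.Agent.Lib.FischerLarge58
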