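import Cfsg.Agent.Lib.FischerLarge58.Chart
import Cfsg.Agent.Lib.FischerLarge58.Cent
import Cfsg.Agent.Lib.U62Recog47.Main
import Cfsg.Agent.S0280
import Cfsg.Agent.S0283

/-!
# `C(E)` is quasisimple with quotient PSU(6,2)

The component of `z` is the whole class: the centraliser of the product of `z` with a point, and of
every involution commuting with a member of the class, fixes that member's component.

Owner: helper58.
-/

set_option autoImplicit false
set_option linter.style.haveILetI false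
set_option linter.unusedSectionVars false
set_option maxRecDepth 100000

namespace Cfsg.Agent.Lib.FischerLarge58

open Cfsg.Agent.Lib.LargeFischer13
open Cfsg.Agent.Lib.FischerLarge43
open Cfsg.Agent.Lib.FischerLarge45 (Local zc)
open Cfsg.Agent.Lib.G24 (K4)
open scoped commutatorElement
open Cfsg.Agent.Lib.U62Recog47 (perp Rel comp Host Conclusion)

attribute [local instance] Bridge.acg Bridge.fin Bridge.act

theorem perp_count : ((List.range 4096).filter onPerp).length = 1024 := by decide +kernel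

theorem card_psu : Nat.card (Cfsg.PSU 6 K4 2) = 9196830720 := by
  have h := Cfsg.Agent.S0280.result (F := K4) (q := 2) (by rw [Cfsg.Agent.Lib.G24.K4.card_eq]; rfl) 6 (by omega)
  norm_num [Finset.prod_range_succ] at h
  omega

theorem psu_simple : IsSimpleGroup (Cfsg.PSU 6 K4 2) :=
  Cfsg.Agent.S0283.result (F := K4) (q := 2) (by rw [Cfsg.Agent.Lib.G24.K4.card_eq]; rfl) 6 (by omega) (by omega)

theorem psu_not_comm : ∃ x y : Cfsg.PSU 6 K4 2, x * y ≠ y * x := by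
  haveI := psu_simple
  haveI : Finite (Cfsg.PSU 6 K4 2) := Nat.finite_of_card_ne_zero (by rw [card_psu]; norm_num)
  by_contra h
  push Not at h
  letI : CommGroup (Cfsg.PSU 6 K4 2) := { (inferInstance : Group (Cfsg.PSU 6 K4 2)) with mul_comm := h }
  have hp := IsSimpleGroup.prime_card (α := Cfsg.PSU 6 K4 2)
  rw [card_psu] at hp
  norm_num at hp

/-- two involutions: conjugate, or some power of the product commutes with both -/
theorem dihedral {X : Type*} [Group X] {a b : X} (ha : a * a = 1) (hb : b * b = 1) (hf : IsOfFinOrder (a * b)) :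
    (∃ g, g * b * g⁻¹ = a) ∨ ∃ t : ℕ, (a * b) ^ t ≠ 1 ∧ (a * b) ^ t * (a * b) ^ t = 1 ∧
      Commute ((a * b) ^ t) a ∧ Commute ((a * b) ^ t) b ∧
      ((∃ g, g * a * g⁻¹ = b * (a * b) ^ t) ∨ ∃ g, g * b * g⁻¹ = b * (a * b) ^ t) := by
  have ia : a⁻¹ = a := inv_eq_of_mul_eq_one_right ha
  have ib : b⁻¹ = b := inv_eq_of_mul_eq_one_right hb
  set r := a * b
  have hbr : ∀ s : ℕ, b * r ^ s = (r ^ s)⁻¹ * b := fun s => by
    have h : SemiconjBy b r r⁻¹ := by
      show b * r = r⁻¹ * b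
      simp only [r, mul_inv_rev, ia, ib, mul_assoc]
    rw [(h.pow_right s).eq, inv_pow]
  have hodd : ∀ s : ℕ, (r ^ s)⁻¹ * (b * a * b) * r ^ s = b * r ^ (2 * s + 1) := fun s => by
    rw [two_mul, add_assoc, pow_add, ← mul_assoc b, hbr, pow_succ']
    simp only [r, mul_assoc]
  rcases Nat.even_or_odd (orderOf r) with ⟨t, ht⟩ | ⟨s, hs⟩
  · right
    have hpos := hf.orderOf_pos
    have h2 : r ^ t * r ^ t = 1 := by rw [← pow_add, ← ht, pow_orderOf_eq_one]
    have hne : r ^ t ≠ 1 := fun h => by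
      have := orderOf_le_of_pow_eq_one (by omega : 0 < t) h
      omega
    have hi : (r ^ t)⁻¹ = r ^ t := inv_eq_of_mul_eq_one_right h2
    have hcb : Commute (r ^ t) b := by
      show r ^ t * b = b * r ^ t
      rw [hbr, hi]
    have hca : Commute (r ^ t) a := by
      have hr : Commute (r ^ t) r := (Commute.refl r).pow_left t
      have := hr.mul_right hcb
      rwa [show r * b = a by simp only [r, mul_assoc, hb, mul_one]] at this
    refine ⟨t, hne, h2, hca, hcb, ?_⟩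
    rcases Nat.even_or_odd t with ⟨s, hs⟩ | ⟨s, hs⟩
    · refine Or.inr ⟨(r ^ s)⁻¹, ?_⟩
      rw [inv_inv, ← hbr, mul_assoc, ← pow_add, hs]
    · refine Or.inl ⟨(r ^ s)⁻¹ * b, ?_⟩
      rw [hs, ← hodd, mul_inv_rev, inv_inv, ib]
      simp only [mul_assoc]
  · left
    refine ⟨b * r ^ s, ?_⟩
    have h := hodd s
    rw [← hs, pow_orderOf_eq_one, mul_one] at h
    calc b * r ^ s * b * (b * r ^ s)⁻¹ = b * r ^ s * ((r ^ s)⁻¹ * (b * a * b) * r ^ s) * (r ^ s)⁻¹ * b := by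
          rw [h, mul_inv_rev, ib]; group
      _ = b * b * a * (b * b) := by group
      _ = a := by rw [hb, one_mul, mul_one]

universe u

variable {G : Type u} [Group G] [Finite G] {z : G} {Q : Subgroup (Cz z)} [Q.Normal]
variable {L : Local z Q} (K : Ctx L)

theorem Ctx.conclusion : Conclusion K.DE K.zE := U62Recog47.main K.host

theorem Ctx.comp_le {x : K.KE} (hx : x ∈ comp K.DE K.zE) : x ∈ K.DE := hx.1

theorem Ctx.zE_comp : K.zE ∈ comp K.DE K.zE := ⟨K.zE_mem, Or.inl (Commute.refl _)⟩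

/-- the image of a state -/
noncomputable def Ctx.gK {m : Nat} (hm : m < 2048) : K.KE := QuotientGroup.mk ⟨K.g m, K.g_mem_CE hm⟩

theorem Ctx.pts_comp {m : Nat} (hm : m ∈ ptsL) (hlt : m < 2048) : K.gK hlt ∈ comp K.DE K.zE := by
  refine ⟨⟨_, K.pts_inD hm, rfl⟩, Or.inl ?_⟩
  show K.zE * K.gK hlt = K.gK hlt * K.zE
  rw [Ctx.gK, Ctx.zE, ← QuotientGroup.mk_mul, ← QuotientGroup.mk_mul]
  congr 1
  refine Subtype.ext ?_
  show z * K.g m = K.g m * z
  exact (Subgroup.mem_centralizer_singleton_iff.1 (K.P.el m).2).symm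

theorem Ctx.rel_conj {x y g : K.KE} (h : Rel K.DE x y) : Rel K.DE (g * x * g⁻¹) (g * y * g⁻¹) := by
  have hc : ∀ a b : K.KE, Commute a b → Commute (g * a * g⁻¹) (g * b * g⁻¹) := fun a b h =>
    h.map (MulAut.conj g)
  refine ⟨K.host.conjD g y h.1, ?_⟩
  rcases h.2 with e | ⟨t, ⟨ht, hne, hxt⟩, hty⟩
  · exact Or.inl (hc _ _ e)
  · exact Or.inr ⟨g * t * g⁻¹, ⟨K.host.conjD g t ht, fun e => hne (mul_left_cancel (mul_right_cancel e)),
      hc _ _ hxt⟩, hc _ _ hty⟩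

/-- an element moving one member of the component into it fixes it -/
theorem Ctx.move {g x y : K.KE} (hx : x ∈ comp K.DE K.zE) (hgx : g * x * g⁻¹ ∈ comp K.DE K.zE)
    (hy : y ∈ comp K.DE K.zE) : g * y * g⁻¹ ∈ comp K.DE K.zE :=
  K.host.rel_trans hgx (K.rel_conj (K.host.rel_of hx hy))

theorem Ctx.fixed_point {g : K.KE} (hg : g * g = 1)
    (h : ∀ x ∈ comp K.DE K.zE, g * x * g⁻¹ ∈ comp K.DE K.zE) :
    ∃ y ∈ comp K.DE K.zE, Commute g y := by
  classical
  haveI : Fact (Nat.Prime 2) := ⟨Nat.prime_two⟩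
  haveI : Fintype ↥(comp K.DE K.zE) := Fintype.ofFinite _
  have ig : g⁻¹ = g := inv_eq_of_mul_eq_one_right hg
  let σ : Equiv.Perm ↥(comp K.DE K.zE) :=
    { toFun := fun x => ⟨g * x.1 * g⁻¹, h x.1 x.2⟩
      invFun := fun x => ⟨g * x.1 * g⁻¹, h x.1 x.2⟩
      left_inv := fun x => Subtype.ext (by
        show g * (g * x.1 * g⁻¹) * g⁻¹ = x.1
        rw [ig, show g * (g * x.1 * g) * g = (g * g) * x.1 * (g * g) by group, hg, one_mul, mul_one])
      right_inv := fun x => Subtype.ext (by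
        show g * (g * x.1 * g⁻¹) * g⁻¹ = x.1
        rw [ig, show g * (g * x.1 * g) * g = (g * g) * x.1 * (g * g) by group, hg, one_mul, mul_one]) }
  have hodd : ¬ 2 ∣ Fintype.card ↥(comp K.DE K.zE) := by
    rw [← Nat.card_eq_fintype_card, Nat.card_coe_set_eq, K.conclusion.2.1]
    norm_num
  obtain ⟨y, hy⟩ := Equiv.Perm.exists_fixed_point_of_prime (n := 1) hodd (σ := σ) (by
    rw [pow_one, pow_two]
    exact Equiv.ext fun x => σ.left_inv x)
  exact ⟨y.1, y.2, mul_inv_eq_iff_eq_mul.1 (congrArg Subtype.val hy)⟩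

theorem Ctx.j_facts : 1104 < 2048 ∧ 1104 ∉ eL ∧ 1104 ∉ ptsL ∧ (80 : Nat) ∈ ptsL ∧
    ∀ e ∈ eL, 1104 ^^^ e ∉ ptsL := by decide +kernel

/-- a member of the class commuting with the product of `z` and a point lies in the component -/
theorem Ctx.of_comm_j {Y : K.CE} (hY : K.InD (Y : G)) (hc : Commute (Y : G) (K.g 1104)) :
    (QuotientGroup.mk Y : K.KE) ∈ comp K.DE K.zE := by
  obtain ⟨hj, hje, -, -, -⟩ := Ctx.j_facts
  obtain ⟨a, ha, b, hb, e⟩ := K.cent_pts hj hje Y.2 hc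
  have hlt : ∀ m ∈ ptsL, m < 2048 := by decide
  set y : K.KE := QuotientGroup.mk Y
  have e' : y * K.gK (hlt a ha) * y⁻¹ = K.gK (hlt b hb) := by
    show QuotientGroup.mk Y * QuotientGroup.mk _ * (QuotientGroup.mk Y)⁻¹ = _
    rw [← QuotientGroup.mk_inv, ← QuotientGroup.mk_mul, ← QuotientGroup.mk_mul]
    exact congrArg QuotientGroup.mk (Subtype.ext e)
  have hy2 : y * y = 1 := by
    rw [← QuotientGroup.mk_mul, show Y * Y = 1 from Subtype.ext (K.inD_sq hY), QuotientGroup.mk_one]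
  obtain ⟨x, hx, hyx⟩ := K.fixed_point hy2 fun x hx =>
    K.move (K.pts_comp ha (hlt a ha)) (e' ▸ K.pts_comp hb (hlt b hb)) hx
  exact K.conclusion.1 x hx y ⟨Y, hY, rfl⟩ hyx.symm

/-- the component is the whole class -/
theorem Ctx.comp_eq : comp K.DE K.zE = K.DE := by
  refine Set.Subset.antisymm (fun x hx => hx.1) fun k hk => ?_
  by_contra hnot
  obtain ⟨⟨kk, hkk⟩, hkD, rfl⟩ := hk
  obtain ⟨hj, hje, hjp, h80, hjx⟩ := Ctx.j_facts
  set J : K.CE := ⟨K.g 1104, K.g_mem_CE hj⟩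
  set Kl : K.CE := ⟨kk, hkk⟩
  have hJ2 : J * J = 1 := Subtype.ext (K.g_sq hj)
  have hK2 : Kl * Kl = 1 := Subtype.ext (K.inD_sq hkD)
  have hJD : ¬ K.InD (K.g 1104) := fun h => hjp (K.inD_pts hj h)
  have hJe : ∀ e : G, e ∈ K.EG → ¬ K.InD (K.g 1104 * e) := by
    rintro _ ⟨e, he, rfl⟩ h
    rw [← K.g_xor hj (eL_facts e he).1] at h
    exact hjx e he (K.inD_pts (Nat.xor_lt_two_pow (n := 11) hj (eL_facts e he).1) h)
  rcases dihedral hJ2 hK2 (isOfFinOrder_of_finite _) with ⟨g, hg⟩ | ⟨t, hne, h2, hca, hcb, hconj⟩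
  · refine hJD ?_
    rw [← show ((g * Kl * g⁻¹ : K.CE) : G) = K.g 1104 from congrArg Subtype.val hg]
    exact K.inD_conj g.2 hkD
  set c := (J * Kl) ^ t
  by_cases hcE : (c : G) ∈ K.EG
  · rcases hconj with ⟨g, hg⟩ | ⟨g, hg⟩
    · refine hJe _ (inv_mem hcE) ?_
      have e : ((g⁻¹ * Kl * g : K.CE) : G) = K.g 1104 * (c : G)⁻¹ := by
        have h1 : g * J * g⁻¹ = Kl * c := hg
        have h2' : g⁻¹ * Kl * g = J * (g⁻¹ * c⁻¹ * g) := by
          rw [show Kl = g * J * g⁻¹ * c⁻¹ by rw [h1, mul_inv_cancel_right]]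
          group
        rw [congrArg Subtype.val h2']
        show K.g 1104 * ((g : G)⁻¹ * (c : G)⁻¹ * (g : G)) = _
        rw [mul_assoc (g : G)⁻¹, (K.e_comm g.2 (inv_mem hcE)).eq, ← mul_assoc (g : G)⁻¹, inv_mul_cancel, one_mul]
      rw [← e]
      have := K.inD_conj (inv_mem g.2) hkD
      rwa [inv_inv] at this
    · refine K.inD_mul_e hkD hcE (fun h => hne (Subtype.ext h)) ?_
      have hg' : g * Kl * g⁻¹ = Kl * c := hg
      show IsConj z ((Kl * c : K.CE) : G)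
      rw [← hg']
      exact K.inD_isConj (K.inD_conj g.2 hkD)
  obtain ⟨x, hx, exz⟩ := hkD
  have hck : Commute (c : G) kk := congrArg Subtype.val hcb.eq
  have hc'z : x⁻¹ * c * x * z = z * (x⁻¹ * c * x) := by
    have hzk : x⁻¹ * kk * x = z := by
      rw [show kk = x * z * x⁻¹ from exz.symm]; group
    calc x⁻¹ * c * x * z = x⁻¹ * c * x * (x⁻¹ * kk * x) := by rw [hzk]
      _ = x⁻¹ * ((c : G) * kk) * x := by group
      _ = x⁻¹ * (kk * c) * x := by rw [hck.eq]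
      _ = (x⁻¹ * kk * x) * (x⁻¹ * c * x) := by group
      _ = _ := by rw [hzk]
  set X : Cz z := ⟨x⁻¹ * c * x, Subgroup.mem_centralizer_singleton_iff.2 hc'z⟩
  have hXC : X ∈ K.C1 := mul_mem (mul_mem (inv_mem hx) c.2) hx
  have hX2 : X * X = 1 := Subtype.ext (by
    show x⁻¹ * (c : G) * x * (x⁻¹ * c * x) = 1
    rw [show x⁻¹ * (c : G) * x * (x⁻¹ * c * x) = x⁻¹ * ((c : G) * c) * x by group,
      show (c : G) * c = 1 from congrArg Subtype.val h2]
    group)
  obtain ⟨d, hd, m, hm, em⟩ := K.into_A hXC hX2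
  have hdG : (d : G) * (x⁻¹ * c * x) * (d : G)⁻¹ = K.g m := congrArg Subtype.val em
  have hme : m ∉ eL := fun he => hcE (by
    have hgm : K.g m ∈ K.EG := ⟨m, he, rfl⟩
    have hcc : (c : G) = x * (d : G)⁻¹ * K.g m * (x * (d : G)⁻¹)⁻¹ := by rw [← hdG]; group
    have hh : Commute (K.g m) (x * (d : G)⁻¹) := K.e_comm (mul_mem hx (inv_mem hd)) hgm
    rw [hcc, ← hh.eq, mul_inv_cancel_right]
    exact hgm)
  set g0 : G := x * (d : G)⁻¹ with hg0
  have hg0C : g0 ∈ K.CE := mul_mem hx (inv_mem hd)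
  have hg0z : g0 * z * g0⁻¹ = kk := by
    have hdz : (d : G) * z = z * d := Subgroup.mem_centralizer_singleton_iff.1 d.2
    rw [hg0, show kk = x * z * x⁻¹ from exz.symm, mul_inv_rev, inv_inv]
    calc x * (d : G)⁻¹ * z * ((d : G) * x⁻¹) = x * (d : G)⁻¹ * (z * d) * x⁻¹ := by group
      _ = x * (d : G)⁻¹ * (d * z) * x⁻¹ := by rw [hdz]
      _ = _ := by group
  have hc' : (c : G) = g0 * K.g m * g0⁻¹ := by rw [hg0, ← hdG]; group
  have hcj : Commute (g0⁻¹ * K.g 1104 * g0) (K.g m) := by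
    have h : (c : G) * K.g 1104 = K.g 1104 * c := congrArg Subtype.val hca.eq
    rw [hc'] at h
    show g0⁻¹ * K.g 1104 * g0 * K.g m = K.g m * (g0⁻¹ * K.g 1104 * g0)
    calc g0⁻¹ * K.g 1104 * g0 * K.g m = g0⁻¹ * (K.g 1104 * (g0 * K.g m * g0⁻¹)) * g0 := by group
      _ = g0⁻¹ * (g0 * K.g m * g0⁻¹ * K.g 1104) * g0 := by rw [h]
      _ = _ := by group
  obtain ⟨a, ha, b, hb, eab⟩ :=
    K.cent_pts hm hme (mul_mem (mul_mem (inv_mem hg0C) (K.g_mem_CE hj)) hg0C) hcj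
  have hlt : ∀ m ∈ ptsL, m < 2048 := by decide
  set Gm : K.KE := QuotientGroup.mk ⟨g0, hg0C⟩
  set j : K.KE := QuotientGroup.mk J
  have hj2 : j * j = 1 := by rw [← QuotientGroup.mk_mul, hJ2, QuotientGroup.mk_one]
  have e' : Gm⁻¹ * j * Gm * K.gK (hlt a ha) * (Gm⁻¹ * j * Gm)⁻¹ = K.gK (hlt b hb) := by
    show (QuotientGroup.mk _)⁻¹ * QuotientGroup.mk J * QuotientGroup.mk _ * QuotientGroup.mk _ *
      ((QuotientGroup.mk _)⁻¹ * QuotientGroup.mk J * QuotientGroup.mk _)⁻¹ = _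
    simp only [← QuotientGroup.mk_inv, ← QuotientGroup.mk_mul]
    exact congrArg QuotientGroup.mk (Subtype.ext eab)
  have hj'2 : Gm⁻¹ * j * Gm * (Gm⁻¹ * j * Gm) = 1 := by
    rw [show Gm⁻¹ * j * Gm * (Gm⁻¹ * j * Gm) = Gm⁻¹ * (j * j) * Gm by group, hj2]
    group
  obtain ⟨y, hy, hjy⟩ := K.fixed_point hj'2 fun x hx =>
    K.move (K.pts_comp ha (hlt a ha)) (e' ▸ K.pts_comp hb (hlt b hb)) hx
  obtain ⟨Y, hY, rfl⟩ := hy.1
  set Y' : K.CE := ⟨g0, hg0C⟩ * Y * (⟨g0, hg0C⟩ : K.CE)⁻¹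
  have hY' : K.InD (Y' : G) := K.inD_conj hg0C hY
  have hmk : (QuotientGroup.mk Y' : K.KE) = Gm * QuotientGroup.mk Y * Gm⁻¹ := by
    rw [QuotientGroup.mk_mul, QuotientGroup.mk_mul, QuotientGroup.mk_inv]
  have hjy' : Commute j (QuotientGroup.mk Y' : K.KE) := by
    rw [hmk]
    show j * (Gm * _ * Gm⁻¹) = Gm * _ * Gm⁻¹ * j
    calc j * (Gm * QuotientGroup.mk Y * Gm⁻¹) = Gm * (Gm⁻¹ * j * Gm * QuotientGroup.mk Y) * Gm⁻¹ := by group
      _ = Gm * (QuotientGroup.mk Y * (Gm⁻¹ * j * Gm)) * Gm⁻¹ := by rw [hjy.eq]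
      _ = _ := by group
  have hfin := K.of_comm_j hY' (congrArg Subtype.val (K.lift_comm hY' hjy').eq).symm
  rw [hmk] at hfin
  have := K.move hy hfin K.zE_comp
  refine hnot ?_
  rw [show (QuotientGroup.mk Kl : K.KE) = Gm * K.zE * Gm⁻¹ by
    rw [Ctx.zE, ← QuotientGroup.mk_inv, ← QuotientGroup.mk_mul, ← QuotientGroup.mk_mul]
    exact congrArg QuotientGroup.mk (Subtype.ext hg0z.symm)]
  exact this

theorem Ctx.card_C1 : Nat.card K.C1 ≤ 2048 * 25920 := by
  classical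
  let f : ↥K.C1 →* (Cz z) ⧸ Q := (QuotientGroup.mk' Q).comp K.C1.subtype
  have hr : Nat.card f.range ≤ 25920 := by
    rw [← card_S2 L K.hF]
    refine Subgroup.card_le_of_le ?_
    rintro _ ⟨c, rfl⟩
    exact K.mk_mem_S2 c.2
  have hk : Nat.card f.ker ≤ 2048 := by
    have hle : Nat.card f.ker ≤ Nat.card ↥(Q ⊓ K.C1 : Subgroup (Cz z)) :=
      Nat.card_le_card_of_injective
        (fun c => ⟨c.1.1, (QuotientGroup.eq_one_iff _).1 (MonoidHom.mem_ker.1 c.2), c.1.2⟩)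
        fun a b h => Subtype.ext (Subtype.ext (congrArg (fun t : ↥(Q ⊓ K.C1 : Subgroup (Cz z)) => t.1) h))
    refine hle.trans ?_
    rw [FischerLarge45.card_codesOf L.br L.S inf_le_left ⟨L.data.es.mem, K.zc_mem_C1⟩ L.data.es.ne]
    have hsub : FischerLarge45.codesOf L.br L.S (Q ⊓ K.C1) ⊆ ((List.range 4096).filter onPerp).toFinset := by
      intro a ha
      obtain ⟨ha4, u, hu, eu⟩ := Finset.mem_filter.1 ha
      rw [List.mem_toFinset, List.mem_filter]
      exact ⟨List.mem_range.2 (Finset.mem_range.1 ha4),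
        (K.mem_C1_Q u (Finset.mem_range.1 ha4) eu).1 hu.2⟩
    have := Finset.card_le_card hsub
    rw [List.toFinset_card_of_nodup (List.nodup_range.filter _), perp_count] at this
    omega
  have h := Subgroup.card_eq_card_quotient_mul_card_subgroup f.ker
  rw [Nat.card_congr (QuotientGroup.quotientKerEquivRange f).toEquiv] at h
  rw [h]
  exact (Nat.mul_le_mul hr hk).trans (le_of_eq (by norm_num))

theorem Ctx.card_EG : Nat.card K.EG = 4 := by
  classical
  have h : (K.EG : Set G) = ↑((eL.map K.g).toFinset) := by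
    ext a
    simp [K.mem_EG]
  rw [show Nat.card K.EG = Nat.card (K.EG : Set G) from rfl, Nat.card_coe_set_eq, h, Set.ncard_coe_finset,
    List.toFinset_card_of_nodup]
  · rfl
  · refine List.Nodup.map_on (fun a ha b hb e => ?_) (by decide)
    exact K.g_inj (eL_facts a ha).1 (eL_facts b hb).1 e

theorem Ctx.card_KE_le : Nat.card K.KE ≤ 9196830720 := by
  classical
  have h693 : (Subgroup.centralizer ({K.zE} : Set K.KE)).index ≤ 693 := by
    rw [← K.conclusion.2.1, K.comp_eq, Subgroup.index]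
    rw [← Nat.card_coe_set_eq]
    refine Nat.card_le_card_of_injective
      (fun x => ⟨x.out * K.zE * x.out⁻¹, K.host.conjD _ _ K.zE_mem⟩) fun x y h => ?_
    have h' : x.out * K.zE * x.out⁻¹ = y.out * K.zE * y.out⁻¹ := congrArg Subtype.val h
    rw [← x.out_eq', ← y.out_eq', QuotientGroup.eq, Subgroup.mem_centralizer_singleton_iff]
    calc x.out⁻¹ * y.out * K.zE = x.out⁻¹ * (y.out * K.zE * y.out⁻¹) * y.out := by group
      _ = x.out⁻¹ * (x.out * K.zE * x.out⁻¹) * y.out := by rw [h']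
      _ = _ := by group
  have hst : Subgroup.centralizer ({K.zE} : Set K.KE) ≤ K.φ.range := by
    intro g hg
    obtain ⟨⟨x, hx⟩, rfl⟩ := QuotientGroup.mk_surjective g
    have hxz := K.lift_comm (a := ⟨x, hx⟩) (b := ⟨z, K.z_mem_CE⟩) K.inD_z
      (Subgroup.mem_centralizer_singleton_iff.1 hg)
    exact ⟨⟨⟨x, Subgroup.mem_centralizer_singleton_iff.2 (congrArg Subtype.val hxz.eq)⟩, hx⟩, rfl⟩
  have hker : 4 ≤ Nat.card K.φ.ker := by
    rw [← K.card_EG]
    refine Nat.card_le_card_of_injective (fun e => ⟨⟨⟨e.1, ?_⟩, ?_⟩, ?_⟩) fun a b h =>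
      Subtype.ext (congrArg (fun t : K.φ.ker => (t.1.1 : G)) h)
    · exact Subgroup.mem_centralizer_singleton_iff.2 (K.e_comm K.z_mem_CE e.2).eq
    · obtain ⟨n, hn, en⟩ := e.2
      show (e.1 : G) ∈ K.CE
      rw [← en]
      exact K.g_mem_CE (eL_facts n hn).1
    · exact (QuotientGroup.eq_one_iff _).2 e.2
  have h1 := Subgroup.card_eq_card_quotient_mul_card_subgroup K.φ.ker
  rw [Nat.card_congr (QuotientGroup.quotientKerEquivRange K.φ).toEquiv] at h1
  have h2 := (Subgroup.centralizer ({K.zE} : Set K.KE)).card_mul_index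
  have h3 := Subgroup.card_le_of_le hst
  have h4 := K.card_C1
  rw [h1] at h4
  have h5 : Nat.card K.φ.range * 4 ≤ 2048 * 25920 := (Nat.mul_le_mul_left _ hker).trans h4
  rw [← h2]
  calc _ ≤ Nat.card K.φ.range * 693 := Nat.mul_le_mul h3 h693
    _ ≤ _ := by omega

/-- The centraliser modulo the four-group. -/
theorem Ctx.iso_psu : Nonempty (K.KE ≃* Cfsg.PSU 6 K4 2) := by
  obtain ⟨e⟩ := K.conclusion.2.2.2
  have htop : Subgroup.closure (comp K.DE K.zE) = ⊤ := by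
    refine Subgroup.eq_top_of_le_card _ ?_
    rw [Nat.card_congr e.toEquiv, card_psu]
    exact K.card_KE_le
  exact ⟨(((MulEquiv.subgroupCongr htop).trans Subgroup.topEquiv).symm).trans e⟩

theorem Ctx.quasisimple : Cfsg.IsQuasisimple ↥K.CE := by
  obtain ⟨e⟩ := K.iso_psu
  haveI := psu_simple
  haveI hs : IsSimpleGroup K.KE := e.isSimpleGroup
  obtain ⟨p, q, hpq⟩ := psu_not_comm
  have hnc : ∃ a b : K.KE, a * b ≠ b * a :=
    ⟨e.symm p, e.symm q, fun h => hpq (by simpa using congrArg e h)⟩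
  have hZ : Subgroup.center K.KE = ⊥ := by
    refine ((Subgroup.Normal.eq_bot_or_eq_top (H := Subgroup.center K.KE) inferInstance)).resolve_right fun h => ?_
    obtain ⟨a, b, hab⟩ := hnc
    exact hab (Subgroup.mem_center_iff.1 (h ▸ Subgroup.mem_top a) b).symm
  have hcen : Subgroup.center ↥K.CE = K.EC := by
    refine le_antisymm (fun c hc => ?_) fun c hc => Subgroup.mem_center_iff.2 fun g => Subtype.ext ?_
    · have : (QuotientGroup.mk c : K.KE) ∈ Subgroup.center K.KE := Subgroup.mem_center_iff.2 fun g => by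
        obtain ⟨g, rfl⟩ := QuotientGroup.mk_surjective g
        rw [← QuotientGroup.mk_mul, ← QuotientGroup.mk_mul, Subgroup.mem_center_iff.1 hc g]
      rw [hZ, Subgroup.mem_bot] at this
      exact (QuotientGroup.eq_one_iff c).1 this
    · exact (K.e_comm g.2 hc).symm.eq
  set C' := commutator ↥K.CE
  haveI : C'.Normal := inferInstance
  have hmap : C'.map (QuotientGroup.mk' K.EC) = ⊤ := by
    rw [show C'.map (QuotientGroup.mk' K.EC) = commutator K.KE by
      rw [map_commutator_eq, commutator_def, MonoidHom.range_eq_top.2 (QuotientGroup.mk'_surjective _)]]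
    refine ((Subgroup.Normal.eq_bot_or_eq_top (H := commutator K.KE) inferInstance)).resolve_left fun h => ?_
    obtain ⟨a, b, hab⟩ := hnc
    have hm : ⁅a, b⁆ ∈ commutator K.KE := Subgroup.commutator_mem_commutator (Subgroup.mem_top a) (Subgroup.mem_top b)
    rw [h, Subgroup.mem_bot, commutatorElement_eq_one_iff_mul_comm] at hm
    exact hab hm
  have hzC : (⟨z, K.z_mem_CE⟩ : K.CE) ∈ C' := by
    obtain ⟨p1, p2, hb⟩ := bb_witness
    have c1 := (K.mem_C1_Q (pre L 1) (by norm_num) (π_pre L 1)).2 p1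
    have c2 := (K.mem_C1_Q (pre L 2) (by norm_num) (π_pre L 2)).2 p2
    have h := conj_code L (pre L 1) (pre L 2) (a := 1) (b := 2) (by norm_num) (by norm_num) (π_pre L 1) (π_pre L 2)
    rw [hb, Nat.cast_one, zb_one] at h
    have hm : ⁅(⟨_, c1⟩ : K.CE), (⟨_, c2⟩ : K.CE)⁆ ∈ C' :=
      Subgroup.commutator_mem_commutator (Subgroup.mem_top _) (Subgroup.mem_top _)
    convert hm using 1
    refine Subtype.ext ?_
    show z = (((pre L 1 : Cz z) * (pre L 2 : Cz z) * (pre L 1 : Cz z)⁻¹ * (pre L 2 : Cz z)⁻¹ : Cz z) : G)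
    rw [h, ← (FischerLarge45.zc_comm (pre L 2 : Cz z)).symm.eq, mul_inv_cancel_right]
  have hpts : ∀ m (hm : m ∈ ptsL) (hlt : m < 2048), (⟨K.g m, K.g_mem_CE hlt⟩ : K.CE) ∈ C' := by
    intro m hm hlt
    obtain ⟨x, hx, e⟩ := K.pts_inD hm
    rw [show (⟨K.g m, K.g_mem_CE hlt⟩ : K.CE) = ⟨x, hx⟩ * ⟨z, K.z_mem_CE⟩ * (⟨x, hx⟩ : K.CE)⁻¹ from
      Subtype.ext e.symm]
    exact Subgroup.Normal.conj_mem inferInstance _ hzC _
  have hEC : K.EC ≤ C' := by
    have hmul : ∀ a b (ha : a < 2048) (hb : b < 2048),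
        (⟨K.g a, K.g_mem_CE ha⟩ : K.CE) ∈ C' → (⟨K.g b, K.g_mem_CE hb⟩ : K.CE) ∈ C' →
        (⟨K.g (a ^^^ b), K.g_mem_CE (Nat.xor_lt_two_pow (n := 11) ha hb)⟩ : K.CE) ∈ C' := by
      intro a b ha hb h1 h2
      rw [show (⟨K.g (a ^^^ b), _⟩ : K.CE) = ⟨K.g a, K.g_mem_CE ha⟩ * ⟨K.g b, K.g_mem_CE hb⟩ from
        Subtype.ext (K.g_xor ha hb)]
      exact mul_mem h1 h2
    have hp : ∀ m ∈ [80, 96, 193, 195, 1947, 1965, 505, 1216, 1472], m ∈ ptsL ∧ m < 2048 := by decide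
    have six : ∀ a b c d f g', a ∈ ptsL ∧ a < 2048 → b ∈ ptsL ∧ b < 2048 → c ∈ ptsL ∧ c < 2048 →
        d ∈ ptsL ∧ d < 2048 → f ∈ ptsL ∧ f < 2048 → g' ∈ ptsL ∧ g' < 2048 →
        ∀ r (hr : r < 2048), a ^^^ b ^^^ c ^^^ d ^^^ f ^^^ g' = r → (⟨K.g r, K.g_mem_CE hr⟩ : K.CE) ∈ C' := by
      intro a b c d f g' ha hb hc hd hf hg r hr e
      subst e
      have l2 := Nat.xor_lt_two_pow (n := 11) ha.2 hb.2
      have l3 := Nat.xor_lt_two_pow (n := 11) l2 hc.2
      have l4 := Nat.xor_lt_two_pow (n := 11) l3 hd.2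
      have l5 := Nat.xor_lt_two_pow (n := 11) l4 hf.2
      exact hmul _ _ l5 hg.2 (hmul _ _ l4 hf.2 (hmul _ _ l3 hd.2 (hmul _ _ l2 hc.2 (hmul _ _ ha.2 hb.2
        (hpts a ha.1 ha.2) (hpts b hb.1 hb.2)) (hpts c hc.1 hc.2)) (hpts d hd.1 hd.2)) (hpts f hf.1 hf.2))
        (hpts g' hg.1 hg.2)
    obtain ⟨-, -, -, -, -, x4, x8⟩ := e_states
    have h4 := six _ _ _ _ _ _ (hp 80 (by simp)) (hp 96 (by simp)) (hp 193 (by simp)) (hp 195 (by simp))
      (hp 1947 (by simp)) (hp 1965 (by simp)) 4 (by norm_num) x4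
    have h8 := six _ _ _ _ _ _ (hp 80 (by simp)) (hp 96 (by simp)) (hp 193 (by simp)) (hp 505 (by simp))
      (hp 1216 (by simp)) (hp 1472 (by simp)) 8 (by norm_num) x8
    rintro ⟨c, hcC⟩ ⟨e, he, ee⟩
    have hgoal : ∀ n (hn : n < 2048), K.g n = c → (⟨K.g n, K.g_mem_CE hn⟩ : K.CE) ∈ C' →
        (⟨c, hcC⟩ : K.CE) ∈ C' := fun n hn en h => by
      rwa [show (⟨c, hcC⟩ : K.CE) = ⟨K.g n, K.g_mem_CE hn⟩ from Subtype.ext en.symm]
    simp only [eL, List.mem_cons, List.not_mem_nil, or_false] at he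
    rcases he with rfl | rfl | rfl | rfl
    · have : (⟨c, hcC⟩ : K.CE) = 1 := Subtype.ext (ee.symm.trans K.g_zero)
      rw [this]
      exact one_mem _
    · exact hgoal 4 (by norm_num) ee h4
    · exact hgoal 8 (by norm_num) ee h8
    · exact hgoal (4 ^^^ 8) (by decide) (by simpa using ee) (hmul 4 8 (by norm_num) (by norm_num) h4 h8)
  refine ⟨⟨?_⟩, ?_⟩
  · refine eq_top_iff.2 fun c _ => ?_
    obtain ⟨d, hd, ed⟩ := (hmap.ge (Subgroup.mem_top (QuotientGroup.mk' K.EC c)) :)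
    have := hEC ((QuotientGroup.eq (s := K.EC) (a := d) (b := c)).1 ed)
    simpa using mul_mem hd this
  · exact (QuotientGroup.quotientMulEquivOfEq hcen).isSimpleGroup

end Cfsg.Agent.Lib.FischerLarge58
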